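import Cfsg.Agent.CentralizerD8.Characters
import Mathlib

/-!
Consequences when there is no subgroup of index two: the order is 168 or 360 and the group is
simple.
-/

set_option autoImplicit false

namespace CfsgLib.CentralizerD8

variable {G : Type*} [Group G] [Finite G] {α a b : G} (hD : Data α a b)
include hD

theorem Data.linear_trivial (hno : ∀ H : Subgroup G, H.index ≠ 2) (l : G →* ℂˣ) : l a = 1 := by
  haveI : Fact (Nat.Prime 2) := ⟨Nat.prime_two⟩
  haveI : Finite l.range := Finite.of_surjective l.rangeRestrict l.rangeRestrict_surjective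
  have hodd : ¬ 2 ∣ Nat.card l.range := by
    intro h2

    -- squaring is not injective, so its image is proper
    let sqh : l.range →* l.range := powMonoidHom 2
    obtain ⟨z, hz⟩ := exists_prime_orderOf_dvd_card' (G := l.range) 2 h2
    have hne : sqh.range ≠ ⊤ := fun htop => by
      have hinj := Finite.injective_iff_surjective.mpr (MonoidHom.range_eq_top.mp htop)
      have hz1 : z = 1 := hinj (a₁ := z) (a₂ := 1) (by
        simp only [sqh, powMonoidHom_apply, one_pow, ← hz, pow_orderOf_eq_one])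
      rw [hz1, orderOf_one] at hz
      omega
    have hp : IsPGroup 2 (l.range ⧸ sqh.range) := fun q => ⟨1, by
      obtain ⟨r, rfl⟩ := QuotientGroup.mk_surjective q
      rw [pow_one, ← QuotientGroup.mk_pow, QuotientGroup.eq_one_iff]
      exact ⟨r, rfl⟩⟩
    obtain ⟨k, hk⟩ := IsPGroup.iff_card.mp hp
    have hk0 : k ≠ 0 := by
      rintro rfl
      exact hne (Subgroup.index_eq_one.mp (by rw [Subgroup.index_eq_card, hk, pow_zero]))
    obtain ⟨M, hM⟩ := Sylow.exists_subgroup_card_pow_prime (G := l.range ⧸ sqh.range) 2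
      (n := k - 1) (hk ▸ pow_dvd_pow 2 (Nat.sub_le k 1))
    have hMi : M.index = 2 := by
      have := M.card_mul_index
      rw [hM, hk, show k = k - 1 + 1 by omega, pow_succ] at this
      simp only [Nat.add_sub_cancel] at this
      exact Nat.eq_of_mul_eq_mul_left (by positivity) this
    apply hno (((M.comap (QuotientGroup.mk' sqh.range))).comap l.rangeRestrict)
    rw [Subgroup.index_comap_of_surjective _ l.rangeRestrict_surjective,
      Subgroup.index_comap_of_surjective _ (QuotientGroup.mk'_surjective _), hMi]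
  have h4 : orderOf (l.rangeRestrict a) ∣ 2 ^ 2 := by
    rw [show (2 : ℕ) ^ 2 = orderOf a by rw [hD.orderOf_a]; rfl]
    exact orderOf_map_dvd _ _
  obtain ⟨i, -, hi⟩ := (Nat.dvd_prime_pow Nat.prime_two).mp h4
  rcases i with _ | i
  · have := orderOf_eq_one_iff.mp hi
    exact congrArg Subtype.val this
  · exact absurd ((hi ▸ dvd_pow_self 2 (Nat.succ_ne_zero i)).trans (orderOf_dvd_natCard _)) hodd

theorem Data.card_eq_of_no_index_two (hno : ∀ H : Subgroup G, H.index ≠ 2) :
    Nat.card G = 168 ∨ Nat.card G = 360 :=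
  hD.card_eq (hD.isConj_of_no_index_two hno) (hD.linear_trivial hno)

theorem Data.isSimpleGroup_of_no_index_two (hno : ∀ H : Subgroup G, H.index ≠ 2) :
    IsSimpleGroup G := by
  haveI : Fact (Nat.Prime 2) := ⟨Nat.prime_two⟩
  have hconj := hD.isConj_of_no_index_two hno
  haveI : Nontrivial G := ⟨⟨α, 1, hD.ne_one⟩⟩
  refine ⟨fun M hM => ?_⟩
  by_cases hev : 2 ∣ Nat.card M
  · right
    obtain ⟨⟨u, huM⟩, hu⟩ := exists_prime_orderOf_dvd_card' (G := M) 2 hev
    rw [Subgroup.orderOf_mk] at hu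
    obtain ⟨hu2, hu1⟩ := CfsgLib.StronglyEmbedded.orderOf_two_iff.mp hu
    have hinv : ∀ v : G, v * v = 1 → v ≠ 1 → v ∈ M := by
      intro v hv2 hv1
      obtain ⟨c, hc⟩ := isConj_iff.mp ((hconj u hu2 hu1).symm.trans (hconj v hv2 hv1))
      exact hc ▸ hM.conj_mem u huM c
    obtain ⟨-, hba2, hbanot, -⟩ := hD.four_facts (g := b * a) (.inr (.inl rfl))
    have hb1 : b ≠ 1 := fun h => hD.b_not (h ▸ Subgroup.one_mem _)
    have hbM := hinv b hD.b_sq hb1
    have haM : a ∈ M := by
      have := M.mul_mem (M.inv_mem hbM) (hinv (b * a) hba2 (fun h => hbanot (h ▸ Subgroup.one_mem _)))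
      rwa [inv_mul_cancel_left] at this
    have hCM : Subgroup.centralizer ({α} : Set G) ≤ M := by
      intro g hg
      have hA : ∀ v : G, v ∈ Subgroup.zpowers a → v ∈ M := fun v hv => Subgroup.zpowers_le.mpr haM hv
      rcases hD.list g (Subgroup.mem_centralizer_singleton_iff.mp hg) with
        (e | e | e | e) | (e | e | e | e) <;> rw [e]
      exacts [M.one_mem, haM, hD.a_sq ▸ M.mul_mem haM haM, M.inv_mem haM, hbM, M.mul_mem hbM haM,
        M.mul_mem hbM (hD.a_sq ▸ M.mul_mem haM haM), M.mul_mem hbM (M.inv_mem haM)]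
    obtain ⟨S, hS⟩ := hD.exists_sylow
    have hNS : Subgroup.normalizer ((S : Subgroup G) : Set G) ≤ M := by
      intro g hg
      refine hCM (Subgroup.mem_centralizer_singleton_iff.mpr ?_)
      rw [hS] at hg
      have hmem : ∀ v ∈ Subgroup.centralizer ({α} : Set G),
          g⁻¹ * v * g ∈ Subgroup.centralizer ({α} : Set G) := fun v hv =>
        (Subgroup.mem_normalizer_iff''.mp hg v).mp hv
      have hz := (Subgroup.mem_normalizer_iff.mp hg α).mp hD.alpha_mem
      have hc : ∀ v ∈ Subgroup.centralizer ({α} : Set G), g * α * g⁻¹ * v = v * (g * α * g⁻¹) := by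
        intro v hv
        have h := Subgroup.mem_centralizer_singleton_iff.mp (hmem v hv)
        calc g * α * g⁻¹ * v = g * (α * (g⁻¹ * v * g)) * g⁻¹ := by group
          _ = g * (g⁻¹ * v * g * α) * g⁻¹ := by rw [h]
          _ = v * (g * α * g⁻¹) := by group
      rcases hD.central _ (Subgroup.mem_centralizer_singleton_iff.mp hz) (hc a hD.a_mem)
        (hc b hD.b_mem) with e | e
      · exact absurd (conj_eq_one_iff.mp e) hD.ne_one
      · exact mul_inv_eq_iff_eq_mul.mp e
    haveI := hM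
    have hSM : (S : Subgroup G) ≤ M := hS ▸ hCM
    have hfr := Sylow.normalizer_sup_eq_top (S.subtype hSM)
    rw [Sylow.coe_subtype, Subgroup.subgroupOf_map_subtype, inf_of_le_left hSM] at hfr
    rwa [sup_eq_right.mpr hNS] at hfr
  · left
    have hfpf : ∀ v : G, v * v = 1 → v ≠ 1 → ∀ m ∈ M, v * m = m * v → m = 1 := by
      intro v hv2 hv1 m hm hcomm
      obtain ⟨c, hc⟩ := isConj_iff.mp (hconj v hv2 hv1)
      have hmC : c⁻¹ * m * c ∈ Subgroup.centralizer ({α} : Set G) :=
        Subgroup.mem_centralizer_singleton_iff.mpr (by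
          calc c⁻¹ * m * c * α = c⁻¹ * (m * (c * α * c⁻¹)) * c := by group
            _ = c⁻¹ * (c * α * c⁻¹ * m) * c := by rw [hc, hcomm]
            _ = α * (c⁻¹ * m * c) := by group)
      have hmM : c⁻¹ * m * c ∈ M := by simpa using hM.conj_mem m hm c⁻¹
      have h8 : orderOf (⟨_, hmC⟩ : Subgroup.centralizer ({α} : Set G)) ∣ 2 ^ 3 := by
        rw [show (2 : ℕ) ^ 3 = 8 by rfl, ← hD.card_C]; exact orderOf_dvd_natCard _
      rw [Subgroup.orderOf_mk] at h8
      have hdM : orderOf (⟨_, hmM⟩ : M) ∣ Nat.card M := orderOf_dvd_natCard _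
      rw [Subgroup.orderOf_mk] at hdM
      obtain ⟨i, -, hi⟩ := (Nat.dvd_prime_pow Nat.prime_two).mp h8
      rcases i with _ | i
      · have h1 := orderOf_eq_one_iff.mp hi
        calc m = c * (c⁻¹ * m * c) * c⁻¹ := by group
          _ = 1 := by rw [h1]; group
      · exact absurd ((hi ▸ dvd_pow_self 2 (Nat.succ_ne_zero i)).trans hdM) hev
    have hinvert : ∀ v : G, v * v = 1 → v ≠ 1 → ∀ m ∈ M, v * m * v⁻¹ = m⁻¹ := by
      intro v hv2 hv1 m hm
      have hvinv : v⁻¹ = v := inv_eq_of_mul_eq_one_right hv2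
      let f : ↥M → ↥M := fun x => ⟨x.1⁻¹ * (v * x.1 * v⁻¹),
        M.mul_mem (M.inv_mem x.2) (hM.conj_mem _ x.2 v)⟩
      have hf : Function.Injective f := by
        intro x y hxy
        have h : x.1⁻¹ * (v * x.1 * v⁻¹) = y.1⁻¹ * (v * y.1 * v⁻¹) := congrArg Subtype.val hxy
        refine Subtype.ext (mul_inv_eq_one.mp (hfpf v hv2 hv1 _ (M.mul_mem y.2 (M.inv_mem x.2))
          (mul_inv_eq_iff_eq_mul.mp ?_))).symm
        rw [show v * (y.1 * x.1⁻¹) * v⁻¹ =
          y.1 * (y.1⁻¹ * (v * y.1 * v⁻¹)) * (x.1⁻¹ * (v * x.1 * v⁻¹))⁻¹ * x.1⁻¹ by group, ← h]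
        group
      obtain ⟨x, hx⟩ := Finite.injective_iff_surjective.mp hf ⟨m, hm⟩
      rw [show m = x.1⁻¹ * (v * x.1 * v⁻¹) from (congrArg Subtype.val hx).symm]
      simp only [mul_inv_rev, inv_inv, hvinv, ← mul_assoc]
      rw [show v * x.1⁻¹ * v * x.1 * v * v = v * x.1⁻¹ * v * x.1 * (v * v) by group, hv2, mul_one]
    rw [Subgroup.eq_bot_iff_forall]
    intro m hm
    have hb1 : b ≠ 1 := fun h => hD.b_not (h ▸ Subgroup.one_mem _)
    obtain ⟨-, h2, hnot, -⟩ := hD.four_facts (g := b * α) (.inr (.inr (.inl rfl)))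
    have e1 := hinvert (b * α) h2 (fun h => hnot (h ▸ Subgroup.one_mem _)) m hm
    have e2 : b * α * m * (b * α)⁻¹ = m := by
      rw [show b * α * m * (b * α)⁻¹ = b * (α * m * α⁻¹) * b⁻¹ by group,
        hinvert α hD.sq hD.ne_one m hm, hinvert b hD.b_sq hb1 _ (M.inv_mem hm), inv_inv]
    rw [e2] at e1
    by_contra hne
    have hord : orderOf (⟨m, hm⟩ : M) = 2 := by
      rw [Subgroup.orderOf_mk]
      exact orderOf_eq_prime (by rw [pow_two]; nth_rewrite 2 [e1]; exact mul_inv_cancel m) hne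
    exact hev (hord ▸ orderOf_dvd_natCard _)

end CfsgLib.CentralizerD8
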