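import Mathlib

/-!
The arithmetic of the two exceptional columns for a dihedral centralizer of order eight.
-/

set_option autoImplicit false

namespace CfsgLib.CentralizerD8

/-- The two columns, with the relation forced by the class multiplication formula. -/
theorem order_eq {I : Type*} [Fintype I] (one : I) (d : I → ℕ) (A B : I → ℤ) (N : ℕ)
    (hd1 : d one = 1) (hA1 : A one = 1) (hB1 : B one = 1) (hd : ∀ i, 0 < d i)
    (hlin : ∀ i, d i = 1 → A i = B i) (hparA : ∀ i, Even ((d i : ℤ) - A i))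
    (hparB : ∀ i, Even (A i - B i))
    (hAA : ∑ i, A i * A i = 8) (hBB : ∑ i, B i * B i = 4) (hAB : ∑ i, A i * B i = 0)
    (hdA : ∑ i, (d i : ℤ) * A i = 0) (hdB : ∑ i, (d i : ℤ) * B i = 0)
    (hN : ∃ k, N = 8 * k ∧ Odd k)
    (hEA : ∑ i, (A i : ℚ) ^ 2 / (d i : ℚ) * (A i : ℚ) = 256 / N)
    (hEB : ∑ i, (A i : ℚ) ^ 2 / (d i : ℚ) * (B i : ℚ) = 256 / N) :
    N = 168 ∨ N = 360 := by
  classical
  set U := (Finset.univ.erase one) with hU
  set S := U.filter fun i => B i ≠ 0 with hS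
  have hsplit : ∀ g : I → ℤ, ∑ i, g i = g one + ∑ i ∈ U, g i := fun g =>
    (Finset.add_sum_erase _ _ (Finset.mem_univ one)).symm
  have hB3 : ∑ i ∈ S, B i * B i = 3 := by
    rw [hS, Finset.sum_filter_of_ne (p := fun i => B i ≠ 0)
      (fun i _ hne h0 => hne (by rw [h0, mul_zero]))]
    have := hsplit fun i => B i * B i
    rw [hBB, hB1] at this
    linarith
  have hBone : ∀ i ∈ S, B i = 1 ∨ B i = -1 := by
    intro i hi
    have h1 := Finset.single_le_sum (f := fun i => B i * B i) (fun _ _ => mul_self_nonneg _) hi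
    rw [hB3] at h1
    have h0 := (Finset.mem_filter.mp hi).2
    have : -1 ≤ B i ∧ B i ≤ 1 := by constructor <;> nlinarith
    omega
  have hcard : S.card = 3 := by
    have h := hB3
    rw [Finset.sum_congr rfl (fun i hi => show B i * B i = 1 by
      rcases hBone i hi with h | h <;> rw [h] <;> rfl), Finset.sum_const, nsmul_one] at h
    exact_mod_cast h
  obtain ⟨x, y, z, hxy, hxz, hyz, hSeq⟩ := Finset.card_eq_three.mp hcard
  set R := U \ S with hR
  have hsplit2 : ∀ g : I → ℤ, ∑ i, g i = g one + g x + g y + g z + ∑ i ∈ R, g i := by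
    intro g
    rw [hsplit g, hR, ← Finset.sum_sdiff (show S ⊆ U from Finset.filter_subset _ _), hSeq]
    rw [Finset.sum_insert (by simp [hxy, hxz]), Finset.sum_insert (by simp [hyz]),
      Finset.sum_singleton]
    ring
  have hRB : ∀ i ∈ R, B i = 0 := by
    intro i hi
    by_contra h
    exact (Finset.mem_sdiff.mp hi).2 (Finset.mem_filter.mpr ⟨(Finset.mem_sdiff.mp hi).1, h⟩)
  have hoddA : ∀ i ∈ S, 1 ≤ A i * A i := by
    intro i hi
    have : A i ≠ 0 := by
      intro h0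
      obtain ⟨k, hk⟩ := hparB i
      rw [h0] at hk
      rcases hBone i hi with h | h <;> omega
    have : 0 < A i * A i := mul_self_pos.mpr this
    omega
  have hA7 := hsplit2 fun i => A i * A i
  rw [hAA, hA1] at hA7
  have hRnn : 0 ≤ ∑ i ∈ R, A i * A i := Finset.sum_nonneg fun _ _ => mul_self_nonneg _
  have hunit : ∀ i ∈ S, A i = 1 ∨ A i = -1 := by
    intro i hi
    have hx1 := hoddA x (by simp [hSeq])
    have hy1 := hoddA y (by simp [hSeq])
    have hz1 := hoddA z (by simp [hSeq])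
    have hle : A i * A i ≤ 5 := by
      rcases (by simpa [hSeq] using hi : i = x ∨ i = y ∨ i = z) with e | e | e <;> subst e <;> linarith
    obtain ⟨k, hk⟩ := hparB i
    have : -2 ≤ A i ∧ A i ≤ 2 := by constructor <;> nlinarith
    rcases hBone i hi with h | h <;> omega
  have hsx : x ∈ S := by simp [hSeq]
  have hsy : y ∈ S := by simp [hSeq]
  have hsz : z ∈ S := by simp [hSeq]
  have hsq : ∀ {v : ℤ}, v = 1 ∨ v = -1 → v * v = 1 := fun h => by rcases h with h | h <;> rw [h] <;> rfl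
  rw [hsq (hunit x hsx), hsq (hunit y hsy), hsq (hunit z hsz)] at hA7
  have hR4 : ∑ i ∈ R, A i * A i = 4 := by linarith
  obtain ⟨w, hw, hw0⟩ := Finset.exists_ne_zero_of_sum_ne_zero (by rw [hR4]; norm_num :
    ∑ i ∈ R, A i * A i ≠ 0)
  have hAw : A w = 2 ∨ A w = -2 := by
    have h1 := Finset.single_le_sum (f := fun i => A i * A i) (fun _ _ => mul_self_nonneg _) hw
    rw [hR4] at h1
    obtain ⟨k, hk⟩ := hparB w
    rw [hRB w hw] at hk
    have : -2 ≤ A w ∧ A w ≤ 2 := by constructor <;> nlinarith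
    have : A w ≠ 0 := fun h => hw0 (by rw [h, mul_zero])
    omega
  have hwR : ∀ i ∈ R, i ≠ w → A i = 0 := by
    intro i hi hne
    have h1 := Finset.add_sum_erase R (fun i => A i * A i) hw
    rw [hR4] at h1
    have h4 : A w * A w = 4 := by rcases hAw with h | h <;> rw [h] <;> rfl
    have h2 : ∑ j ∈ R.erase w, A j * A j = 0 := by linarith
    exact mul_self_eq_zero.mp ((Finset.sum_eq_zero_iff_of_nonneg
      (fun _ _ => mul_self_nonneg _)).mp h2 i (Finset.mem_erase.mpr ⟨hne, hi⟩))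
  -- the signed degrees
  have hBsum : ∀ g : I → ℤ, ∑ i, g i * B i = g one + g x * B x + g y * B y + g z * B z := by
    intro g
    rw [hsplit2 fun i => g i * B i, Finset.sum_eq_zero (fun i hi => by rw [hRB i hi, mul_zero]),
      hB1]
    ring
  have hAsum : ∀ g : I → ℤ, ∑ i, g i * A i = g one + g x * A x + g y * A y + g z * A z + g w * A w := by
    intro g
    rw [hsplit2 fun i => g i * A i, Finset.sum_eq_single w
      (fun i hi hne => by rw [hwR i hi hne, mul_zero]) (fun h => absurd hw h), hA1]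
    ring
  have o := hBsum A
  rw [hAB, hA1] at o
  have e1 := hBsum fun i => (d i : ℤ)
  rw [hdB, hd1, Nat.cast_one] at e1
  have e2 := hAsum fun i => (d i : ℤ)
  rw [hdA, hd1, Nat.cast_one] at e2
  have q1 : (256 : ℚ) / N = 1 + (A x : ℚ) ^ 2 / d x * B x + (A y : ℚ) ^ 2 / d y * B y +
      (A z : ℚ) ^ 2 / d z * B z := by
    rw [← hEB, ← Finset.sum_subset (Finset.subset_univ ({one, x, y, z} : Finset I)) (fun i _ hi => by
      simp only [Finset.mem_insert, Finset.mem_singleton, not_or] at hi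
      rw [hRB i (by simp [hR, hU, hSeq, hi.1, hi.2.1, hi.2.2.1, hi.2.2.2])]
      simp)]
    have hne : ∀ i ∈ S, one ≠ i := fun i hi e =>
      (Finset.mem_erase.mp (Finset.mem_filter.mp hi).1).1 e.symm
    rw [Finset.sum_insert (by simp [hne x hsx, hne y hsy, hne z hsz]),
      Finset.sum_insert (by simp [hxy, hxz]), Finset.sum_insert (by simp [hyz]),
      Finset.sum_singleton, hA1, hB1, hd1]
    push_cast
    ring
  have q2 : (256 : ℚ) / N = 1 + (A x : ℚ) ^ 2 / d x * A x + (A y : ℚ) ^ 2 / d y * A y +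
      (A z : ℚ) ^ 2 / d z * A z + (A w : ℚ) ^ 2 / d w * A w := by
    have hne : ∀ i ∈ U, one ≠ i := fun i hi e => (Finset.mem_erase.mp hi).1 e.symm
    have hwU := (Finset.mem_sdiff.mp hw).1
    have hwS : ∀ i ∈ S, i ≠ w := fun i hi e => (Finset.mem_sdiff.mp hw).2 (e ▸ hi)
    rw [← hEA, ← Finset.sum_subset (Finset.subset_univ ({one, x, y, z, w} : Finset I))
      (fun i _ hi => by
        simp only [Finset.mem_insert, Finset.mem_singleton, not_or] at hi
        rw [hwR i (by simp [hR, hU, hSeq, hi.1, hi.2.1, hi.2.2.1, hi.2.2.2.1]) hi.2.2.2.2]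
        simp)]
    rw [Finset.sum_insert (by simp [hne x (Finset.filter_subset _ _ hsx),
        hne y (Finset.filter_subset _ _ hsy), hne z (Finset.filter_subset _ _ hsz), hne w hwU]),
      Finset.sum_insert (by simp [hxy, hxz, hwS x hsx]),
      Finset.sum_insert (by simp [hyz, hwS y hsy]),
      Finset.sum_insert (by simp [hwS z hsz]), Finset.sum_singleton, hA1, hd1]
    push_cast
    ring
  -- order the three rows
  obtain ⟨p, q, r, hp, hq, hr, hpB, hqB, hrB, s1, s2, t1, t2⟩ : ∃ p q r : I,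
      (A p = 1 ∨ A p = -1) ∧ (A q = 1 ∨ A q = -1) ∧ (A r = 1 ∨ A r = -1) ∧
      B p = -A p ∧ B q = -A q ∧ B r = A r ∧
      1 + (d p : ℤ) * B p + (d q : ℤ) * B q + (d r : ℤ) * B r = 0 ∧
      1 + (d p : ℤ) * A p + (d q : ℤ) * A q + (d r : ℤ) * A r + (d w : ℤ) * A w = 0 ∧
      (256 : ℚ) / N = 1 + (A p : ℚ) ^ 2 / d p * B p + (A q : ℚ) ^ 2 / d q * B q +
        (A r : ℚ) ^ 2 / d r * B r ∧
      (256 : ℚ) / N = 1 + (A p : ℚ) ^ 2 / d p * A p + (A q : ℚ) ^ 2 / d q * A q +
        (A r : ℚ) ^ 2 / d r * A r + (A w : ℚ) ^ 2 / d w * A w := by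
    have hx' := hunit x hsx
    have hy' := hunit y hsy
    have hz' := hunit z hsz
    have key : ∀ i ∈ S, B i = A i ∨ B i = -A i := fun i hi => by
      rcases hunit i hi with a | a <;> rcases hBone i hi with b | b <;> omega
    rcases key x hsx with kx | kx <;> rcases key y hsy with ky | ky <;> rcases key z hsz with kz | kz
    all_goals
      first
      | exact ⟨x, y, z, hx', hy', hz', kx, ky, kz, by linarith, by linarith, q1, q2⟩
      | exact ⟨x, z, y, hx', hz', hy', kx, kz, ky, by linarith, by linarith, by linarith, by linarith⟩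
      | exact ⟨y, z, x, hy', hz', hx', ky, kz, kx, by linarith, by linarith, by linarith, by linarith⟩
      | (exfalso
         rw [kx, ky, kz] at o
         rcases hx' with a | a <;> rcases hy' with b | b <;> rcases hz' with c | c <;>
           rw [a, b, c] at o <;> norm_num at o)
  clear q1 q2 e1 e2 o
  have hd3 : ∀ {i : I}, B i = -A i → (A i = 1 ∨ A i = -1) → 3 ≤ d i := by
    intro i hB hA
    have h1 := hd i
    have h2 : d i ≠ 1 := fun h => by
      have := hlin i h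
      omega
    obtain ⟨k, hk⟩ := hparA i
    omega
  have hp3 := hd3 hpB hp
  have hq3 := hd3 hqB hq
  rw [hpB, hqB, hrB] at s1
  rw [hpB, hqB, hrB] at t1
  obtain ⟨P, hP⟩ : ∃ P : ℤ, P = A p * d p := ⟨_, rfl⟩
  obtain ⟨Q, hQ⟩ : ∃ Q : ℤ, Q = A q * d q := ⟨_, rfl⟩
  obtain ⟨R', hR'⟩ : ∃ R' : ℤ, R' = A r * d r := ⟨_, rfl⟩
  obtain ⟨g, hg, hgw⟩ : ∃ g : ℤ, (g = 1 ∨ g = -1) ∧ A w = 2 * g := by
    rcases hAw with h | h
    · exact ⟨1, .inl rfl, h⟩
    · exact ⟨-1, .inr rfl, h⟩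
  obtain ⟨W, hW⟩ : ∃ W : ℤ, W = g * d w := ⟨_, rfl⟩
  have inv : ∀ (s : ℤ) (n : ℕ), (s = 1 ∨ s = -1) →
      (s : ℚ) ^ 2 / (n : ℚ) * (s : ℚ) = 1 / ((s * n : ℤ) : ℚ) := by
    intro s n hs
    rcases hs with rfl | rfl <;> simp [div_neg]
  have t2' : (256 : ℚ) / N = 1 + 1 / (P : ℚ) + 1 / (Q : ℚ) + 1 / (R' : ℚ) + 8 / (W : ℚ) := by
    rw [t2, inv _ _ hp, inv _ _ hq, inv _ _ hr, hP, hQ, hR', hW, hgw]
    rcases hg with rfl | rfl <;> push_cast <;> ring
  have t1' : (256 : ℚ) / N = 1 - 1 / (P : ℚ) - 1 / (Q : ℚ) + 1 / (R' : ℚ) := by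
    rw [t1, hP, hQ, hR', ← inv _ _ hp, ← inv _ _ hq, ← inv _ _ hr]
    push_cast
    ring
  have hP3 : P ≠ 0 ∧ Q ≠ 0 ∧ W ≠ 0 := by
    have := hd w
    rcases hp with a | a <;> rcases hq with b | b <;> rcases hg with c | c <;>
      rw [hP, hQ, hW, a, b, c] <;> omega
  have hPd : P ≤ -3 ∨ 3 ≤ P := by rcases hp with a | a <;> rw [hP, a] <;> omega
  have hPodd : Odd P := by
    obtain ⟨k, hk⟩ := hparA p
    rcases hp with a | a <;> rw [hP, a] <;> rw [a] at hk
    · exact ⟨k, by omega⟩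
    · exact ⟨-k, by omega⟩
  have hr0 : R' ≠ 0 := by
    have := hd r
    rcases hr with a | a <;> rw [hR', a] <;> omega
  have l1 : P + Q + W = 0 := by
    have h2 : (d w : ℤ) * A w = 2 * W := by rw [hgw, hW]; ring
    rw [h2] at s2
    rw [hP, hQ]
    linarith
  have l2 : 1 + R' + W = 0 := by
    have h2 : (d w : ℤ) * A w = 2 * W := by rw [hgw, hW]; ring
    rw [h2] at s2
    rw [hR']
    linarith
  have hPQ : Q = P := by
    have hPq : (P : ℚ) ≠ 0 := by exact_mod_cast hP3.1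
    have hQq : (Q : ℚ) ≠ 0 := by exact_mod_cast hP3.2.1
    have hWq : (W : ℚ) ≠ 0 := by exact_mod_cast hP3.2.2
    have e : 1 / (P : ℚ) + 1 / (Q : ℚ) + 4 / (W : ℚ) = 0 := by
      linear_combination (t1' - t2') / 2
    field_simp at e
    have e' : Q * W + P * W + P * Q * 4 = 0 := by
      have : ((Q * W + P * W + P * Q * 4 : ℤ) : ℚ) = ((0 : ℤ) : ℚ) := by
        push_cast; linear_combination e
      exact_mod_cast this
    have hWeq : W = -(P + Q) := by linarith
    rw [hWeq] at e'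
    have : (P - Q) ^ 2 = 0 := by linear_combination -e'
    have := pow_eq_zero_iff (n := 2) two_ne_zero |>.mp this
    linarith
  have hWP : W = -(2 * P) := by rw [hPQ] at l1; linarith
  have hRP : R' = 2 * P - 1 := by linarith
  obtain ⟨k, hk, hkodd⟩ := hN
  have hmain : (k : ℤ) * (P - 1) ^ 2 = 16 * (P * (2 * P - 1)) := by
    have hPq : (P : ℚ) ≠ 0 := by exact_mod_cast hP3.1
    have h2 : (2 * (P : ℚ) - 1) ≠ 0 := by
      have : ((2 * P - 1 : ℤ) : ℚ) ≠ 0 := by exact_mod_cast (hRP ▸ hr0)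
      push_cast at this
      exact this
    have hk0 : (k : ℚ) ≠ 0 := by
      obtain ⟨j, hj⟩ := hkodd
      exact_mod_cast (by omega : k ≠ 0)
    rw [hk, hPQ, hRP] at t1'
    push_cast at t1'
    have e1 : (256 : ℚ) / (8 * k) = 32 / k := by field_simp; ring
    have e2 : 1 - 1 / (P : ℚ) - 1 / (P : ℚ) + 1 / (2 * P - 1) =
        2 * (P - 1) ^ 2 / (P * (2 * P - 1)) := by
      obtain ⟨q, hq⟩ : ∃ q : ℚ, q = 2 * P - 1 := ⟨_, rfl⟩
      rw [← hq] at h2 ⊢
      field_simp
      rw [hq]; ring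
    have : (((k : ℤ) * (P - 1) ^ 2 : ℤ) : ℚ) = ((16 * (P * (2 * P - 1)) : ℤ) : ℚ) := by
      push_cast
      rw [e1, e2, div_eq_div_iff hk0 (mul_ne_zero hPq h2)] at t1'
      linear_combination (-1 / 2 : ℚ) * t1'
    exact_mod_cast this
  have hdvd : (P - 1) ^ 2 ∣ 16 := by
    have h1 : (P - 1) ^ 2 ∣ 16 * (P * (2 * P - 1)) := ⟨k, by rw [← hmain]; ring⟩
    refine IsCoprime.dvd_of_dvd_mul_right ?_ h1
    have c1 : IsCoprime (P - 1) P := ⟨-1, 1, by ring⟩
    have c2 : IsCoprime (P - 1) (2 * P - 1) := ⟨-2, 1, by ring⟩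
    exact (c1.mul_right c2).pow_left
  have hbd : -3 ≤ P ∧ P ≤ 5 := by
    have := Int.le_of_dvd (by norm_num) hdvd
    constructor <;> nlinarith
  obtain ⟨j, hj⟩ := hkodd
  obtain ⟨i, hi⟩ := hPodd
  have hcases : P = -3 ∨ P = 3 ∨ P = 5 := by omega
  rcases hcases with e | e | e <;> rw [e] at hmain <;> norm_num at hmain <;> omega

end CfsgLib.CentralizerD8
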