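import Cfsg.Agent.Eq.Def_Transfer
import Cfsg.Agent.StronglyEmbedded.Basic
import Cfsg.Agent.Transfer.ThompsonTransfer
import Mathlib

/-!
An involution `α` whose centralizer is dihedral of order eight, given by generators.
-/

set_option autoImplicit false

namespace CfsgLib.CentralizerD8

open CfsgLib.StronglyEmbedded (mul_self_eq_one inv_eq_self ne_one_of_orderOf_two orderOf_two_iff
  orderOf_conj)

variable {G : Type*} [Group G] [Finite G]

/-- `C(α) = ⟨a, b⟩` is dihedral of order eight with `a` of order four and `a² = α`. -/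
structure Data (α a b : G) : Prop where
  ne_one : α ≠ 1
  sq : α * α = 1
  a_sq : a * a = α
  b_sq : b * b = 1
  b_inv : b * a * b⁻¹ = a⁻¹
  b_not : b ∉ Subgroup.zpowers a
  b_mem : b ∈ Subgroup.centralizer ({α} : Set G)
  card_C : Nat.card (Subgroup.centralizer ({α} : Set G)) = 8

variable {α a b : G} (hD : Data α a b)
include hD

theorem Data.a_four : a * a * (a * a) = 1 := by rw [hD.a_sq, hD.sq]

theorem Data.alpha_inv : α⁻¹ = α := inv_eq_of_mul_eq_one_right hD.sq

theorem Data.a_ne_one : a ≠ 1 := fun h => hD.ne_one (by rw [← hD.a_sq, h, one_mul])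

theorem Data.a_ne_alpha : a ≠ α := fun h => hD.a_ne_one (by
  have := hD.a_sq
  rw [h, hD.sq] at this
  exact h.trans this.symm)

theorem Data.a_inv : a⁻¹ = a * α :=
  inv_eq_of_mul_eq_one_right (by rw [← mul_assoc, hD.a_sq, hD.sq])

theorem Data.a_inv_ne : a⁻¹ ≠ a := fun h => hD.ne_one (by
  rw [← hD.a_sq]; nth_rewrite 1 [← h]; exact inv_mul_cancel a)

theorem Data.alpha_a : α * a = a * α := by rw [← hD.a_sq, mul_assoc]

theorem Data.a_mem : a ∈ Subgroup.centralizer ({α} : Set G) :=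
  Subgroup.mem_centralizer_singleton_iff.mpr hD.alpha_a.symm

theorem Data.alpha_mem : α ∈ Subgroup.centralizer ({α} : Set G) :=
  Subgroup.mem_centralizer_singleton_iff.mpr rfl

theorem Data.b_inv' : b⁻¹ = b := inv_eq_of_mul_eq_one_right hD.b_sq

theorem Data.b_alpha : b * α = α * b := Subgroup.mem_centralizer_singleton_iff.mp hD.b_mem

theorem Data.ba : b * a = a⁻¹ * b := by rw [← hD.b_inv]; group

theorem Data.a_pow_mem : ∀ g ∈ Subgroup.zpowers a, g = 1 ∨ g = a ∨ g = α ∨ g = a⁻¹ := by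
  intro g hg
  obtain ⟨i, rfl⟩ := Subgroup.mem_zpowers_iff.mp hg
  have h4 : a ^ (4 : ℤ) = 1 := by
    rw [show (4 : ℤ) = 2 + 2 by norm_num, zpow_add, zpow_two]; exact hD.a_four
  have hi : a ^ i = a ^ (i % 4) := by
    conv_lhs => rw [← Int.emod_add_mul_ediv i 4]
    rw [zpow_add, zpow_mul, h4, one_zpow, mul_one]
  rw [hi]
  rcases (show i % 4 = 0 ∨ i % 4 = 1 ∨ i % 4 = 2 ∨ i % 4 = 3 by omega) with e | e | e | e <;> rw [e]
  · exact .inl (zpow_zero a)
  · exact .inr (.inl (zpow_one a))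
  · exact .inr (.inr (.inl (by rw [zpow_two, hD.a_sq])))
  · refine .inr (.inr (.inr ?_))
    rw [eq_inv_iff_mul_eq_one, ← zpow_add_one, show (3 : ℤ) + 1 = 4 by norm_num, h4]

theorem Data.orderOf_a : orderOf a = 4 := by
  have h := orderOf_eq_prime_pow (x := a) (p := 2) (n := 1)
    (by rw [pow_one, pow_two, hD.a_sq]; exact hD.ne_one)
    (by rw [show (2 : ℕ) ^ (1 + 1) = 2 + 2 by rfl, pow_add, pow_two]; exact hD.a_four)
  rw [h]; rfl

theorem Data.list (g : G) (hg : g * α = α * g) :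
    (g = 1 ∨ g = a ∨ g = α ∨ g = a⁻¹) ∨ (g = b ∨ g = b * a ∨ g = b * α ∨ g = b * a⁻¹) := by
  classical
  set C := Subgroup.centralizer ({α} : Set G) with hC
  have hA : Subgroup.zpowers a ≤ C := Subgroup.zpowers_le.mpr hD.a_mem
  have hidx : ((Subgroup.zpowers a).subgroupOf C).index = 2 := by
    have := ((Subgroup.zpowers a).subgroupOf C).card_mul_index
    rw [Nat.card_congr (Subgroup.subgroupOfEquivOfLe hA).toEquiv, Nat.card_zpowers, hD.orderOf_a,
      hC, hD.card_C] at this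
    rw [hC]
    omega
  by_cases hga : g ∈ Subgroup.zpowers a
  · exact .inl (hD.a_pow_mem g hga)
  · have h1 : b⁻¹ * g ∈ Subgroup.zpowers a := by
      have hgC : g ∈ C := Subgroup.mem_centralizer_singleton_iff.mpr hg
      have hbn : (⟨b, hD.b_mem⟩ : C)⁻¹ ∉ (Subgroup.zpowers a).subgroupOf C := fun h =>
        hD.b_not (inv_mem_iff.mp (h : (b⁻¹ : G) ∈ Subgroup.zpowers a))
      have h := (Subgroup.mul_mem_iff_of_index_two hidx (a := (⟨b, hD.b_mem⟩ : C)⁻¹)
        (b := ⟨g, hgC⟩)).mpr (iff_of_false hbn hga)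
      exact h
    have key : ∀ v : G, b⁻¹ * g = v → g = b * v := fun v hv => by rw [← hv, mul_inv_cancel_left]
    rcases hD.a_pow_mem _ h1 with h | h | h | h
    · exact .inr (.inl ((key _ h).trans (mul_one b)))
    · exact .inr (.inr (.inl (key _ h)))
    · exact .inr (.inr (.inr (.inl (key _ h))))
    · exact .inr (.inr (.inr (.inr (key _ h))))

/-- The non-central involutions of the centralizer. -/
theorem Data.invol_list (g : G) (hg : g * α = α * g) (h2 : g * g = 1) (h1 : g ≠ 1) (hα : g ≠ α) :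
    g = b ∨ g = b * a ∨ g = b * α ∨ g = b * a⁻¹ := by
  rcases hD.list g hg with (e | e | e | e) | h
  · exact absurd e h1
  · rw [e, hD.a_sq] at h2; exact absurd h2 hD.ne_one
  · exact absurd e hα
  · rw [e] at h2
    exact absurd (inv_eq_of_mul_eq_one_right h2 ▸ (inv_inv a).symm) (Ne.symm hD.a_inv_ne)
  · exact h

theorem Data.four_facts {g : G} (hg : g = b ∨ g = b * a ∨ g = b * α ∨ g = b * a⁻¹) :
    g * α = α * g ∧ g * g = 1 ∧ g ∉ Subgroup.zpowers a ∧ g * a * g⁻¹ = a⁻¹ := by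
  have main : ∀ v ∈ Subgroup.zpowers a, (b * v) * α = α * (b * v) ∧ (b * v) * (b * v) = 1 ∧
      b * v ∉ Subgroup.zpowers a ∧ (b * v) * a * (b * v)⁻¹ = a⁻¹ := by
    intro v hv
    obtain ⟨i, rfl⟩ := Subgroup.mem_zpowers_iff.mp hv
    have hc : a ^ i * α = α * a ^ i := ((show Commute a α from hD.alpha_a.symm).zpow_left i).eq
    refine ⟨?_, ?_, fun h => hD.b_not ?_, ?_⟩
    · rw [mul_assoc, hc, ← mul_assoc, hD.b_alpha, mul_assoc]
    · calc b * a ^ i * (b * a ^ i) = (b * a ^ i * b⁻¹) * (b * b) * a ^ i := by group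
        _ = (a⁻¹) ^ i * a ^ i := by rw [← conj_zpow, hD.b_inv, hD.b_sq, mul_one]
        _ = 1 := by group
    · have := Subgroup.mul_mem _ h (Subgroup.inv_mem _ hv)
      rwa [mul_inv_cancel_right] at this
    · calc b * a ^ i * a * (b * a ^ i)⁻¹ = b * a * b⁻¹ := by group
        _ = a⁻¹ := hD.b_inv
  rcases hg with rfl | rfl | rfl | rfl
  · simpa using main 1 (Subgroup.one_mem _)
  · exact main a (Subgroup.mem_zpowers a)
  · exact main α (hD.a_sq ▸ Subgroup.mul_mem _ (Subgroup.mem_zpowers a) (Subgroup.mem_zpowers a))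
  · exact main a⁻¹ (Subgroup.inv_mem _ (Subgroup.mem_zpowers a))

theorem Data.centralizer_a :
    Nat.card (Subgroup.centralizer ({a} : Set G)) = 4 := by
  have : Subgroup.centralizer ({a} : Set G) = Subgroup.zpowers a := by
    refine le_antisymm (fun g hg => ?_) (Subgroup.zpowers_le.mpr
      (Subgroup.mem_centralizer_singleton_iff.mpr rfl))
    have hga : g * a = a * g := Subgroup.mem_centralizer_singleton_iff.mp hg
    have hgα : g * α = α * g := by
      rw [← hD.a_sq]; exact ((show Commute g a from hga).mul_right hga).eq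
    rcases hD.list g hgα with (e | e | e | e) | h
    · rw [e]; exact Subgroup.one_mem _
    · rw [e]; exact Subgroup.mem_zpowers a
    · rw [e, ← hD.a_sq]; exact Subgroup.mul_mem _ (Subgroup.mem_zpowers a) (Subgroup.mem_zpowers a)
    · rw [e]; exact Subgroup.inv_mem _ (Subgroup.mem_zpowers a)
    · have h4 := (hD.four_facts h).2.2.2
      rw [mul_inv_eq_iff_eq_mul.mpr hga] at h4
      exact absurd h4.symm hD.a_inv_ne
  rw [this, Nat.card_zpowers, hD.orderOf_a]

/-- The centre of the centralizer. -/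
theorem Data.central (g : G) (hg : g * α = α * g) (ha : g * a = a * g) (hb : g * b = b * g) :
    g = 1 ∨ g = α := by
  rcases hD.list g hg with (e | e | e | e) | h
  · exact .inl e
  · rw [e] at hb
    have h4 := hD.b_inv
    rw [mul_inv_eq_iff_eq_mul.mpr hb.symm] at h4
    exact absurd h4.symm hD.a_inv_ne
  · exact .inr e
  · rw [e] at hb
    have h4 := hD.b_inv
    have h5 : Commute b a := by
      have := (show Commute a⁻¹ b from hb).inv_left
      rw [inv_inv] at this
      exact this.symm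
    rw [mul_inv_eq_iff_eq_mul.mpr h5.eq] at h4
    exact absurd h4.symm hD.a_inv_ne
  · have h4 := (hD.four_facts h).2.2.2
    rw [mul_inv_eq_iff_eq_mul.mpr ha] at h4
    exact absurd h4.symm hD.a_inv_ne

/-- The centralizer is a Sylow 2-subgroup. -/
theorem Data.exists_sylow :
    ∃ S : Sylow 2 G, (S : Subgroup G) = Subgroup.centralizer ({α} : Set G) := by
  haveI : Fact (Nat.Prime 2) := ⟨Nat.prime_two⟩
  have hp : IsPGroup 2 (Subgroup.centralizer ({α} : Set G)) :=
    IsPGroup.of_card (n := 3) (by rw [hD.card_C]; rfl)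
  obtain ⟨S, hS⟩ := hp.exists_le_sylow
  refine ⟨S, le_antisymm (fun s hs => ?_) hS⟩
  haveI : Nontrivial (S : Subgroup G) := ⟨⟨⟨α, hS hD.alpha_mem⟩, 1, fun e =>
    hD.ne_one (congrArg Subtype.val e)⟩⟩
  have hcn := S.2.center_nontrivial
  obtain ⟨n, hn, hcard⟩ :=
    ((S.2.to_subgroup (Subgroup.center (S : Subgroup G))).nontrivial_iff_card).mp hcn
  obtain ⟨z', hz'⟩ := exists_prime_orderOf_dvd_card' (G := Subgroup.center (S : Subgroup G)) 2
    (hcard ▸ dvd_pow_self 2 hn.ne')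
  obtain ⟨z, hzd⟩ : ∃ z : G, z = ((z' : (S : Subgroup G)) : G) := ⟨_, rfl⟩
  have hz2 : orderOf z = 2 := by rw [hzd, Subgroup.orderOf_coe, Subgroup.orderOf_coe, hz']
  have hzc : ∀ s ∈ (S : Subgroup G), z * s = s * z := fun s hs => by
    rw [hzd]; exact (congrArg Subtype.val (Subgroup.mem_center_iff.mp z'.2 ⟨s, hs⟩)).symm
  rcases hD.central z (hzc α (hS hD.alpha_mem)) (hzc a (hS hD.a_mem)) (hzc b (hS hD.b_mem))
    with e | e
  · exact absurd e (ne_one_of_orderOf_two hz2)
  · exact Subgroup.mem_centralizer_singleton_iff.mpr (e ▸ hzc s hs).symm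

theorem Data.orderOf_alpha : orderOf α = 2 := orderOf_two_iff.mpr ⟨hD.sq, hD.ne_one⟩

theorem Data.orderOf_four {g : G} (hg : g = b ∨ g = b * a ∨ g = b * α ∨ g = b * a⁻¹) :
    orderOf g = 2 :=
  orderOf_two_iff.mpr ⟨(hD.four_facts hg).2.1,
    fun e => (hD.four_facts hg).2.2.1 (e ▸ Subgroup.one_mem _)⟩

/-- Without a subgroup of index two all involutions are conjugate to `α`. -/
theorem Data.isConj_of_no_index_two (hno : ∀ H : Subgroup G, H.index ≠ 2) :
    ∀ u : G, u * u = 1 → u ≠ 1 → IsConj α u := by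
  haveI : Fact (Nat.Prime 2) := ⟨Nat.prime_two⟩
  obtain ⟨S, hS⟩ := hD.exists_sylow
  have hA : Subgroup.zpowers a ≤ (S : Subgroup G) := hS ▸ Subgroup.zpowers_le.mpr hD.a_mem
  have hrel : (Subgroup.zpowers a).relIndex (S : Subgroup G) = 2 := by
    have h := Subgroup.relIndex_mul_relIndex ⊥ (Subgroup.zpowers a) (S : Subgroup G) bot_le hA
    rw [Subgroup.relIndex_bot_left, Subgroup.relIndex_bot_left, Nat.card_zpowers, hD.orderOf_a,
      hS, hD.card_C] at h
    rw [hS]
    omega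
  have hfour : ∀ g : G, (g = b ∨ g = b * a ∨ g = b * α ∨ g = b * a⁻¹) → IsConj α g := by
    intro g hg
    obtain ⟨h1, -, h3, -⟩ := hD.four_facts hg
    rcases CfsgLib.Transfer.thompsonTransferLemma S _ hA hrel g (hD.orderOf_four hg)
      (hS.symm ▸ Subgroup.mem_centralizer_singleton_iff.mpr h1) h3 with ⟨M, -, hM, -⟩ | ⟨c, hc⟩
    · exact absurd hM (hno M)
    · have h2 : orderOf (c * g * c⁻¹) = 2 := by rw [orderOf_conj, hD.orderOf_four hg]
      obtain ⟨hsq, hne⟩ := orderOf_two_iff.mp h2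
      have hcα : c * g * c⁻¹ = α := by
        rcases hD.a_pow_mem _ hc with e | e | e | e
        · exact absurd e hne
        · rw [e, hD.a_sq] at hsq; exact absurd hsq hD.ne_one
        · exact e
        · rw [e, ← mul_inv_rev, hD.a_sq, inv_eq_one] at hsq; exact absurd hsq hD.ne_one
      exact (isConj_iff.mpr ⟨c, hcα⟩).symm
  intro u hu hu1
  have hp : IsPGroup 2 (Subgroup.zpowers u) := IsPGroup.of_card (n := 1)
    (by rw [Nat.card_zpowers, orderOf_two_iff.mpr ⟨hu, hu1⟩, pow_one])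
  obtain ⟨T, hT⟩ := hp.exists_le_sylow
  obtain ⟨c, hc⟩ := MulAction.exists_smul_eq G T S
  have hmem : c * u * c⁻¹ ∈ Subgroup.centralizer ({α} : Set G) := by
    rw [← hS, ← hc]
    exact Subgroup.mem_map.mpr ⟨u, hT (Subgroup.mem_zpowers u), rfl⟩
  have hsq : c * u * c⁻¹ * (c * u * c⁻¹) = 1 := by
    calc c * u * c⁻¹ * (c * u * c⁻¹) = c * (u * u) * c⁻¹ := by group
      _ = 1 := by rw [hu]; group
  have hne : c * u * c⁻¹ ≠ 1 := fun e => hu1 (conj_eq_one_iff.mp e)
  have hcu : IsConj u (c * u * c⁻¹) := isConj_iff.mpr ⟨c, rfl⟩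
  by_cases hα : c * u * c⁻¹ = α
  · rw [hα] at hcu; exact hcu.symm
  · exact (hfour _ (hD.invol_list _ (Subgroup.mem_centralizer_singleton_iff.mp hmem) hsq hne hα)).trans
      hcu.symm

end CfsgLib.CentralizerD8
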