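import Cfsg.Agent.CentralizerD8.Basic
import Cfsg.Agent.CentralizerD8.Arith
import Cfsg.Agent.CentralizerFour.Characters
import Mathlib

/-!
A group with a dihedral involution centralizer of order eight, one class of involutions and no
linear character non-trivial on the centralizer has order 168 or 360.
-/

set_option autoImplicit false

namespace CfsgLib.CentralizerD8

open Cfsg CfsgLib.Chars
open CfsgLib.CentralizerFour (card_conjugators_eq sum_irr_mul_conj_eq_card)
open scoped ComplexConjugate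

universe u

variable {G : Type u} [Group G] [Finite G]

/-- Multiplicity of the trivial character of a cyclic group. -/
theorem exists_two_sum {χ : G → ℂ} (hχ : IsCharacter G χ) {s : G} (hs : s * s = 1) (hs1 : s ≠ 1) :
    ∃ n : ℕ, χ 1 + χ s = 2 * (n : ℂ) := by
  classical
  haveI := Fintype.ofFinite (Subgroup.zpowers s)
  obtain ⟨n, hn⟩ := exists_nat_classInner (isCharacter_restrict hχ (Subgroup.zpowers s)) (oneChar _)
  refine ⟨n, ?_⟩
  have h2 : Nat.card (Subgroup.zpowers s) = 2 := by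
    rw [Nat.card_zpowers]; exact orderOf_eq_prime (by rw [sq]; exact hs) hs1
  set s' : Subgroup.zpowers s := ⟨s, Subgroup.mem_zpowers s⟩ with hs'
  have hne : (1 : Subgroup.zpowers s) ≠ s' := fun e => hs1 (congrArg Subtype.val e).symm
  have huniv : (Finset.univ : Finset (Subgroup.zpowers s)) = {1, s'} :=
    (Finset.eq_univ_of_card _ (by
      rw [Finset.card_pair hne, ← Nat.card_eq_fintype_card, h2])).symm
  simp only [classInner, h2, oneChar_apply, map_one, mul_one] at hn
  rw [huniv, Finset.sum_pair hne] at hn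
  simp only [hs', OneMemClass.coe_one] at hn
  linear_combination 2 * hn

variable {α a b : G} (hD : Data α a b)
include hD

theorem Data.exists_four_sum {χ : G → ℂ} (hχ : IsCharacter G χ) :
    ∃ n : ℕ, χ 1 + χ a + χ α + χ a⁻¹ = 4 * (n : ℂ) := by
  classical
  haveI := Fintype.ofFinite (Subgroup.zpowers a)
  obtain ⟨n, hn⟩ := exists_nat_classInner (isCharacter_restrict hχ (Subgroup.zpowers a)) (oneChar _)
  refine ⟨n, ?_⟩
  have h4 : Nat.card (Subgroup.zpowers a) = 4 := by rw [Nat.card_zpowers, hD.orderOf_a]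
  have ha := Subgroup.mem_zpowers a
  have hα : α ∈ Subgroup.zpowers a := hD.a_sq ▸ Subgroup.mul_mem _ ha ha
  have h1a : (1 : G) ≠ a := Ne.symm hD.a_ne_one
  have h1i : (1 : G) ≠ a⁻¹ := fun h => hD.a_ne_one (inv_eq_one.mp h.symm)
  have hai : α ≠ a⁻¹ := fun h => hD.a_ne_alpha (by rw [← inv_inv a, ← h, hD.alpha_inv])
  have huniv : (Finset.univ : Finset (Subgroup.zpowers a)) =
      {1, ⟨a, ha⟩, ⟨α, hα⟩, ⟨a⁻¹, Subgroup.inv_mem _ ha⟩} := by
    refine (Finset.eq_univ_of_card _ ?_).symm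
    rw [← Nat.card_eq_fintype_card, h4]
    simp [Subtype.ext_iff, h1a, h1i, Ne.symm hD.ne_one, hD.a_ne_alpha, Ne.symm hD.a_inv_ne, hai]
  simp only [classInner, h4, oneChar_apply, map_one, mul_one] at hn
  rw [huniv, Finset.sum_insert (by simp [Subtype.ext_iff, h1a, h1i, Ne.symm hD.ne_one]),
    Finset.sum_insert (by simp [Subtype.ext_iff, hD.a_ne_alpha, Ne.symm hD.a_inv_ne]),
    Finset.sum_insert (by simp [Subtype.ext_iff, hai]), Finset.sum_singleton] at hn
  simp only [OneMemClass.coe_one] at hn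
  push_cast at hn
  linear_combination 4 * hn

theorem Data.exists_klein_sum {χ : G → ℂ} (hχ : IsCharacter G χ) :
    ∃ n : ℕ, χ 1 + χ α + χ b + χ (α * b) = 4 * (n : ℂ) := by
  classical
  haveI := Fintype.ofFinite (Subgroup.zpowers α)
  haveI := Fintype.ofFinite (Subgroup.zpowers b)
  let ι : Subgroup.zpowers α × Subgroup.zpowers b →* G :=
    (Subgroup.zpowers α).subtype.noncommCoprod (Subgroup.zpowers b).subtype (by
      rintro ⟨x, hx⟩ ⟨y, hy⟩
      obtain ⟨i, rfl⟩ := Subgroup.mem_zpowers_iff.mp hx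
      obtain ⟨j, rfl⟩ := Subgroup.mem_zpowers_iff.mp hy
      exact (show Commute α b from hD.b_alpha.symm).zpow_zpow i j)
  have hι : ∀ p, ι p = (p.1 : G) * (p.2 : G) := fun p => rfl
  obtain ⟨n, hn⟩ := exists_nat_classInner (isCharacter_comp hχ ι) (oneChar _)
  refine ⟨n, ?_⟩
  have hb1 : b ≠ 1 := fun h => hD.b_not (h ▸ Subgroup.one_mem _)
  have hcα : Nat.card (Subgroup.zpowers α) = 2 := by
    rw [Nat.card_zpowers]; exact hD.orderOf_alpha
  have hcb : Nat.card (Subgroup.zpowers b) = 2 := by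
    rw [Nat.card_zpowers]; exact orderOf_eq_prime (by rw [pow_two]; exact hD.b_sq) hb1
  have hnα : (1 : Subgroup.zpowers α) ≠ ⟨α, Subgroup.mem_zpowers α⟩ := fun e =>
    hD.ne_one (congrArg Subtype.val e).symm
  have hnb : (1 : Subgroup.zpowers b) ≠ ⟨b, Subgroup.mem_zpowers b⟩ := fun e =>
    hb1 (congrArg Subtype.val e).symm
  have huα : (Finset.univ : Finset (Subgroup.zpowers α)) = {1, ⟨α, Subgroup.mem_zpowers α⟩} :=
    (Finset.eq_univ_of_card _ (by rw [Finset.card_pair hnα, ← Nat.card_eq_fintype_card, hcα])).symm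
  have hub : (Finset.univ : Finset (Subgroup.zpowers b)) = {1, ⟨b, Subgroup.mem_zpowers b⟩} :=
    (Finset.eq_univ_of_card _ (by rw [Finset.card_pair hnb, ← Nat.card_eq_fintype_card, hcb])).symm
  simp only [classInner, Nat.card_prod, hcα, hcb, oneChar_apply, map_one, mul_one] at hn
  rw [Fintype.sum_prod_type, huα, Finset.sum_pair hnα, hub, Finset.sum_pair hnb,
    Finset.sum_pair hnb] at hn
  simp only [hι, OneMemClass.coe_one, one_mul, mul_one] at hn
  push_cast at hn
  linear_combination 4 * hn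

/-- Integral values and their parities. -/
theorem Data.values (hconj : ∀ u : G, u * u = 1 → u ≠ 1 → IsConj α u) (χ : IrrCharacter G) :
    ∃ A B : ℤ, (χ : G → ℂ) α = A ∧ (χ : G → ℂ) a = B ∧
      Even ((charDegree (χ : G → ℂ) : ℤ) - A) ∧ Even (A - B) := by
  obtain ⟨n, hn⟩ := exists_two_sum (isCharacter_coe χ) hD.sq hD.ne_one
  obtain ⟨k, hk⟩ := hD.exists_four_sum (isCharacter_coe χ)
  obtain ⟨m, hm⟩ := hD.exists_klein_sum (isCharacter_coe χ)
  have hd := coe_charDegree χ
  have hreal : (χ : G → ℂ) a⁻¹ = (χ : G → ℂ) a := by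
    rw [← hD.b_inv]; exact isClassFunction_coe χ a b
  have hb1 : b ≠ 1 := fun h => hD.b_not (h ▸ Subgroup.one_mem _)
  have hb : (χ : G → ℂ) b = (χ : G → ℂ) α :=
    (eq_of_isConj (isClassFunction_coe χ) (hconj b hD.b_sq hb1)).symm
  have hαb : (χ : G → ℂ) (α * b) = (χ : G → ℂ) α := by
    refine (eq_of_isConj (isClassFunction_coe χ) (hconj _ ?_ ?_)).symm
    · calc α * b * (α * b) = α * (b * α) * b := by group
        _ = (α * α) * (b * b) := by rw [hD.b_alpha]; group
        _ = 1 := by rw [hD.sq, hD.b_sq, one_mul]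
    · intro h
      exact hD.b_not (by
        rw [← inv_eq_of_mul_eq_one_right h, hD.alpha_inv, ← hD.a_sq]
        exact Subgroup.mul_mem _ (Subgroup.mem_zpowers a) (Subgroup.mem_zpowers a))
  rw [hb, hαb] at hm
  rw [hreal] at hk
  refine ⟨2 * (n : ℤ) - charDegree (χ : G → ℂ), 2 * (k : ℤ) - n, ?_, ?_, ?_, ?_⟩
  · push_cast; rw [hd]; linear_combination hn
  · push_cast
    linear_combination hk / 2 - hn / 2
  · exact ⟨(charDegree (χ : G → ℂ) : ℤ) - n, by ring⟩
  · have h1 : ((charDegree (χ : G → ℂ) : ℂ)) + 3 * (2 * (n : ℂ) - charDegree (χ : G → ℂ)) =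
        4 * m := by rw [hd]; linear_combination hm - 3 * hn
    have h2 : (charDegree (χ : G → ℂ) : ℤ) + 3 * (2 * n - charDegree (χ : G → ℂ)) = 4 * m := by
      exact_mod_cast h1
    rw [Int.even_iff]
    omega

/-- Elements whose square is an involution are conjugate to `a`. -/
theorem Data.isConj_a (hconj : ∀ u : G, u * u = 1 → u ≠ 1 → IsConj α u) {y : G}
    (h1 : y * y ≠ 1) (h4 : y * y * (y * y) = 1) : IsConj y a := by
  obtain ⟨g, hg⟩ := isConj_iff.mp (hconj _ h4 h1).symm
  have hsq : g * y * g⁻¹ * (g * y * g⁻¹) = α := by rw [← hg]; group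
  have hc : g * y * g⁻¹ * α = α * (g * y * g⁻¹) := by rw [← hsq]; group
  rcases hD.list _ hc with (e | e | e | e) | h
  · rw [e, one_mul] at hsq; exact absurd hsq.symm hD.ne_one
  · exact isConj_iff.mpr ⟨g, e⟩
  · rw [e, hD.sq] at hsq; exact absurd hsq.symm hD.ne_one
  · refine (isConj_iff.mpr ⟨g, e⟩).trans (isConj_iff.mpr ⟨b, ?_⟩)
    rw [← conj_inv, hD.b_inv, inv_inv]
  · rw [(hD.four_facts h).2.1] at hsq; exact absurd hsq.symm hD.ne_one

/-- The involutions `t` with `(α t)²` a given non-central involution of the centralizer. -/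
theorem Data.card_fiber (hconj : ∀ u : G, u * u = 1 → u ≠ 1 → IsConj α u) {z : G}
    (hz : z = b ∨ z = b * a ∨ z = b * α ∨ z = b * a⁻¹) :
    Nat.card {t : G // t * t = 1 ∧ t ≠ 1 ∧ α * t * (α * t) = z} = 2 := by
  classical
  obtain ⟨hzc, hz2, hznot, -⟩ := hD.four_facts hz
  have hz1 : z ≠ 1 := fun e => hznot (e ▸ Subgroup.one_mem _)
  have hzα : z ≠ α := fun e => hznot (by
    rw [e, ← hD.a_sq]; exact Subgroup.mul_mem _ (Subgroup.mem_zpowers a) (Subgroup.mem_zpowers a))
  obtain ⟨g, hg⟩ := isConj_iff.mp (hconj z hz2 hz1)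
  subst hg
  set v := g⁻¹ * α * g with hv
  have hv2 : v * v = 1 := by
    calc v * v = g⁻¹ * (α * α) * g := by rw [hv]; group
      _ = 1 := by rw [hD.sq]; group
  have hv1 : v ≠ 1 := fun h => hD.ne_one (by
    calc α = g * v * g⁻¹ := by rw [hv]; group
      _ = 1 := by rw [h]; group)
  have hvc : v * α = α * v := by
    calc v * α = g⁻¹ * (α * (g * α * g⁻¹)) * g := by rw [hv]; group
      _ = g⁻¹ * (g * α * g⁻¹ * α) * g := by rw [hzc]
      _ = α * v := by rw [hv]; group
  have hvα : v ≠ α := fun h => hzα (by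
    calc g * α * g⁻¹ = g * v * g⁻¹ := by rw [h]
      _ = α := by rw [hv]; group)
  obtain ⟨hva, -, hvnot, hvinv⟩ := hD.four_facts (hD.invol_list v hvc hv2 hv1 hvα)
  have key : ∀ t : G, (t * t = 1 ∧ t ≠ 1 ∧ v * t * (v * t) = α) ↔ t = v * a ∨ t = v * a⁻¹ := by
    intro t
    constructor
    · rintro ⟨ht2, -, hsq⟩
      have hc : v * t * α = α * (v * t) := by rw [← hsq]; group
      rcases hD.list _ hc with (e | e | e | e) | h
      · rw [e, one_mul] at hsq; exact absurd hsq.symm hD.ne_one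
      · exact .inl (by rw [← e, ← mul_assoc, hv2, one_mul])
      · rw [e, hD.sq] at hsq; exact absurd hsq.symm hD.ne_one
      · exact .inr (by rw [← e, ← mul_assoc, hv2, one_mul])
      · rw [(hD.four_facts h).2.1] at hsq; exact absurd hsq.symm hD.ne_one
    · intro ht
      have hinv' : v * a⁻¹ * v⁻¹ = a := by rw [← conj_inv, hvinv, inv_inv]
      have hvi : v⁻¹ = v := inv_eq_of_mul_eq_one_right hv2
      rcases ht with rfl | rfl
      · refine ⟨?_, fun h => hvnot ?_, ?_⟩
        · calc v * a * (v * a) = (v * a * v⁻¹) * (v * v) * a := by group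
            _ = 1 := by rw [hvinv, hv2]; group
        · rw [eq_inv_of_mul_eq_one_left h]
          exact Subgroup.inv_mem _ (Subgroup.mem_zpowers a)
        · rw [show v * (v * a) = a by rw [← mul_assoc, hv2, one_mul], hD.a_sq]
      · refine ⟨?_, fun h => hvnot ?_, ?_⟩
        · calc v * a⁻¹ * (v * a⁻¹) = (v * a⁻¹ * v⁻¹) * (v * v) * a⁻¹ := by group
            _ = 1 := by rw [hinv', hv2]; group
        · rw [eq_inv_of_mul_eq_one_left h, inv_inv]
          exact Subgroup.mem_zpowers a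
        · rw [show v * (v * a⁻¹) = a⁻¹ by rw [← mul_assoc, hv2, one_mul], ← mul_inv_rev, hD.a_sq,
            hD.alpha_inv]
  have hconv : ∀ t : G, (t * t = 1 ∧ t ≠ 1 ∧ α * t * (α * t) = g * α * g⁻¹) ↔
      (g⁻¹ * t * g = v * a ∨ g⁻¹ * t * g = v * a⁻¹) := by
    intro t
    rw [← key]
    refine and_congr ?_ (and_congr ?_ ?_)
    · constructor <;> intro h
      · calc g⁻¹ * t * g * (g⁻¹ * t * g) = g⁻¹ * (t * t) * g := by group
          _ = 1 := by rw [h]; group
      · calc t * t = g * (g⁻¹ * t * g * (g⁻¹ * t * g)) * g⁻¹ := by group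
          _ = 1 := by rw [h]; group
    · refine not_congr ⟨fun h => by rw [h]; group, fun h => ?_⟩
      calc t = g * (g⁻¹ * t * g) * g⁻¹ := by group
        _ = 1 := by rw [h]; group
    · have e : v * (g⁻¹ * t * g) * (v * (g⁻¹ * t * g)) = g⁻¹ * (α * t * (α * t)) * g := by
        rw [hv]; group
      rw [e]
      constructor <;> intro h
      · rw [h]; group
      · calc α * t * (α * t) = g * (g⁻¹ * (α * t * (α * t)) * g) * g⁻¹ := by group
          _ = g * α * g⁻¹ := by rw [h]
  have hne2 : v * a ≠ v * a⁻¹ := fun h => hD.a_inv_ne (mul_left_cancel h).symm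
  have hset : {t : G | t * t = 1 ∧ t ≠ 1 ∧ α * t * (α * t) = g * α * g⁻¹} =
      {g * (v * a) * g⁻¹, g * (v * a⁻¹) * g⁻¹} := by
    ext t
    simp only [Set.mem_setOf_eq, Set.mem_insert_iff, Set.mem_singleton_iff, hconv]
    refine or_congr ⟨fun h => ?_, fun h => ?_⟩ ⟨fun h => ?_, fun h => ?_⟩ <;>
      first
      | (rw [← h]; group)
      | (rw [h]; group)
  change Nat.card ↥{t : G | t * t = 1 ∧ t ≠ 1 ∧ α * t * (α * t) = g * α * g⁻¹} = 2
  rw [Nat.card_coe_set_eq, hset,
    Set.ncard_pair (fun h => hne2 (mul_left_cancel (mul_right_cancel h)))]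

open scoped Classical in
/-- The involutions `t` with `α t` conjugate to a given `x`, counted by conjugators. -/
theorem Data.sum_conjugators [Fintype G] (hconj : ∀ u : G, u * u = 1 → u ≠ 1 → IsConj α u) (x : G) :
    ∑ g : G, Nat.card {h : G // h * (α * (g * α * g⁻¹)) * h⁻¹ = x} =
      8 * ((Finset.univ.filter fun t : G => t * t = 1 ∧ t ≠ 1 ∧ IsConj (α * t) x).card *
        Nat.card (Subgroup.centralizer ({x} : Set G))) := by
  classical
  set T := Finset.univ.filter fun t : G => t * t = 1 ∧ t ≠ 1 with hT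
  have hmap : ∀ g ∈ (Finset.univ : Finset G), g * α * g⁻¹ ∈ T := fun g _ => by
    simp only [hT, Finset.mem_filter, Finset.mem_univ, true_and]
    refine ⟨?_, fun h => hD.ne_one (conj_eq_one_iff.mp h)⟩
    calc g * α * g⁻¹ * (g * α * g⁻¹) = g * (α * α) * g⁻¹ := by group
      _ = 1 := by rw [hD.sq]; group
  rw [← Finset.sum_fiberwise_of_maps_to hmap]
  have h8 : ∀ t ∈ T, ∑ g ∈ Finset.univ.filter (fun g => g * α * g⁻¹ = t),
      Nat.card {h : G // h * (α * (g * α * g⁻¹)) * h⁻¹ = x} =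
      8 * Nat.card {h : G // h * (α * t) * h⁻¹ = x} := by
    intro t ht
    rw [Finset.sum_congr rfl (g := fun _ => Nat.card {h : G // h * (α * t) * h⁻¹ = x})
      (fun g hg => by rw [(Finset.mem_filter.mp hg).2]), Finset.sum_const, smul_eq_mul]
    congr 1
    obtain ⟨ht2, ht1⟩ := (Finset.mem_filter.mp ht).2
    rw [← hD.card_C, ← card_conjugators_eq (hconj t ht2 ht1), Nat.card_eq_fintype_card,
      Fintype.card_subtype]
  rw [Finset.sum_congr rfl h8, ← Finset.mul_sum]
  congr 1
  have hterm : ∀ t : G, Nat.card {h : G // h * (α * t) * h⁻¹ = x} =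
      if IsConj (α * t) x then Nat.card (Subgroup.centralizer ({x} : Set G)) else 0 := by
    intro t
    split_ifs with h
    · rw [card_conjugators_eq h]
      obtain ⟨c, rfl⟩ := isConj_iff.mp h
      refine Nat.card_congr ?_
      refine ((MulAut.conj c).toEquiv.subtypeEquiv fun w => ?_)
      rw [Subgroup.mem_centralizer_singleton_iff, Subgroup.mem_centralizer_singleton_iff]
      simp only [MulEquiv.toEquiv_eq_coe, MulEquiv.coe_toEquiv, MulAut.conj_apply]
      constructor <;> intro h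
      · calc c * w * c⁻¹ * (c * (α * t) * c⁻¹) = c * (w * (α * t)) * c⁻¹ := by group
          _ = c * (α * t) * c⁻¹ * (c * w * c⁻¹) := by rw [h]; group
      · calc w * (α * t) = c⁻¹ * (c * w * c⁻¹ * (c * (α * t) * c⁻¹)) * c := by group
          _ = α * t * w := by rw [h]; group
    · haveI : IsEmpty {w : G // w * (α * t) * w⁻¹ = x} :=
        ⟨fun w => h (isConj_iff.mpr ⟨w.1, w.2⟩)⟩
      exact Nat.card_of_isEmpty
  rw [Finset.sum_congr rfl (fun t _ => hterm t), ← Finset.sum_filter, Finset.sum_const,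
    smul_eq_mul, hT, Finset.filter_filter]
  simp only [and_assoc]

open scoped Classical in
theorem Data.card_alpha [Fintype G] (hconj : ∀ u : G, u * u = 1 → u ≠ 1 → IsConj α u) :
    (Finset.univ.filter fun t : G => t * t = 1 ∧ t ≠ 1 ∧ IsConj (α * t) α).card = 4 := by
  have heq : (Finset.univ.filter fun t : G => t * t = 1 ∧ t ≠ 1 ∧ IsConj (α * t) α) =
      ({b, b * a, b * α, b * a⁻¹} : Finset G) := by
    ext t
    simp only [Finset.mem_filter, Finset.mem_univ, true_and, Finset.mem_insert,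
      Finset.mem_singleton]
    constructor
    · rintro ⟨ht2, ht1, hc⟩
      obtain ⟨c, hc'⟩ := isConj_iff.mp hc
      have hsq : α * t * (α * t) = 1 := by
        calc α * t * (α * t) = c⁻¹ * (c * (α * t) * c⁻¹ * (c * (α * t) * c⁻¹)) * c := by group
          _ = 1 := by rw [hc', hD.sq]; group
      refine hD.invol_list t ?_ ht2 ht1 ?_
      · rw [← inv_eq_of_mul_eq_one_right hsq, mul_inv_rev, hD.alpha_inv,
          inv_eq_of_mul_eq_one_right ht2]
      · rintro rfl
        rw [hD.sq, mul_one, mul_inv_cancel] at hc'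
        exact hD.ne_one hc'.symm
    · intro ht
      obtain ⟨hc, h2, hnot, -⟩ := hD.four_facts ht
      have h1 : t ≠ 1 := fun e => hnot (e ▸ Subgroup.one_mem _)
      refine ⟨h2, h1, (hconj _ ?_ ?_).symm⟩
      · calc α * t * (α * t) = α * (t * α) * t := by group
          _ = (α * α) * (t * t) := by rw [hc]; group
          _ = 1 := by rw [hD.sq, h2, one_mul]
      · intro e
        rw [← inv_eq_of_mul_eq_one_right e, hD.alpha_inv, ← hD.a_sq] at hnot
        exact hnot (Subgroup.mul_mem _ (Subgroup.mem_zpowers a) (Subgroup.mem_zpowers a))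
  rw [heq]
  have n1 : b ≠ b * a := fun h => hD.a_ne_one (mul_eq_left.mp h.symm)
  have n2 : b ≠ b * α := fun h => hD.ne_one (mul_eq_left.mp h.symm)
  have n3 : b ≠ b * a⁻¹ := fun h => hD.a_ne_one (inv_eq_one.mp (mul_eq_left.mp h.symm))
  have n4 : b * a ≠ b * α := fun h => hD.a_ne_alpha (mul_left_cancel h)
  have n5 : b * a ≠ b * a⁻¹ := fun h => hD.a_inv_ne (mul_left_cancel h).symm
  have n6 : b * α ≠ b * a⁻¹ := fun h => hD.a_ne_alpha (by
    rw [← inv_inv a, ← mul_left_cancel h, hD.alpha_inv])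
  simp [n1, n2, n3, n4, n5, n6]

open scoped Classical in
theorem Data.card_a [Fintype G] (hconj : ∀ u : G, u * u = 1 → u ≠ 1 → IsConj α u) :
    (Finset.univ.filter fun t : G => t * t = 1 ∧ t ≠ 1 ∧ IsConj (α * t) a).card = 8 := by
  set Z : Finset G := {b, b * a, b * α, b * a⁻¹} with hZ
  have hmemZ : ∀ z, z ∈ Z ↔ (z = b ∨ z = b * a ∨ z = b * α ∨ z = b * a⁻¹) := fun z => by simp [hZ]
  have hZcard : Z.card = 4 := by
    have n1 : b ≠ b * a := fun h => hD.a_ne_one (mul_eq_left.mp h.symm)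
    have n2 : b ≠ b * α := fun h => hD.ne_one (mul_eq_left.mp h.symm)
    have n3 : b ≠ b * a⁻¹ := fun h => hD.a_ne_one (inv_eq_one.mp (mul_eq_left.mp h.symm))
    have n4 : b * a ≠ b * α := fun h => hD.a_ne_alpha (mul_left_cancel h)
    have n5 : b * a ≠ b * a⁻¹ := fun h => hD.a_inv_ne (mul_left_cancel h).symm
    have n6 : b * α ≠ b * a⁻¹ := fun h => hD.a_ne_alpha (by
      rw [← inv_inv a, ← mul_left_cancel h, hD.alpha_inv])
    simp [hZ, n1, n2, n3, n4, n5, n6]
  rw [Finset.card_eq_sum_card_fiberwise (f := fun t => α * t * (α * t)) (t := Z) ?_,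
    Finset.sum_congr rfl (g := fun _ => 2) ?_, Finset.sum_const, hZcard, smul_eq_mul]
  · intro z hz
    rw [← hD.card_fiber hconj ((hmemZ z).mp hz), Nat.card_eq_fintype_card, Fintype.card_subtype,
      Finset.filter_filter]
    congr 1
    ext t
    simp only [Finset.mem_filter, Finset.mem_univ, true_and]
    constructor
    · rintro ⟨⟨h2, h1, -⟩, h⟩; exact ⟨h2, h1, h⟩
    · rintro ⟨h2, h1, h⟩
      obtain ⟨-, hz2, hznot, -⟩ := hD.four_facts ((hmemZ z).mp hz)
      exact ⟨⟨h2, h1, hD.isConj_a hconj (h ▸ fun e => hznot (e ▸ Subgroup.one_mem _))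
        (h ▸ hz2)⟩, h⟩
  · intro t ht
    obtain ⟨ht2, ht1, hc⟩ := (Finset.mem_filter.mp (Finset.mem_coe.mp ht)).2
    rw [Finset.mem_coe, hmemZ]
    obtain ⟨c, hc'⟩ := isConj_iff.mp hc
    have e : α * t * (α * t) = c⁻¹ * α * c := by
      calc α * t * (α * t) = c⁻¹ * ((c * (α * t) * c⁻¹) * (c * (α * t) * c⁻¹)) * c := by group
        _ = c⁻¹ * α * c := by rw [hc', hD.a_sq]
    have h2 : c⁻¹ * α * c * (c⁻¹ * α * c) = 1 := by
      calc c⁻¹ * α * c * (c⁻¹ * α * c) = c⁻¹ * (α * α) * c := by group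
        _ = 1 := by rw [hD.sq]; group
    change (α * t * (α * t) = b ∨ _)
    refine hD.invol_list _ ?_ (by rw [e, h2]) (fun h => hD.ne_one ?_) (fun h => ?_)
    · -- `(α t)²` is inverted by `α` and is its own inverse
      have hinv : (α * t * (α * t))⁻¹ = α * t * (α * t) :=
        inv_eq_of_mul_eq_one_right (by rw [e, h2])
      have h3 : α * (α * t * (α * t)) * α = (α * t * (α * t))⁻¹ := by
        rw [mul_inv_rev, mul_inv_rev, hD.alpha_inv, inv_eq_of_mul_eq_one_right ht2,
          show α * (α * t * (α * t)) * α = (α * α) * (t * α) * (t * α) by group, hD.sq, one_mul]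
      rw [hinv] at h3
      calc α * t * (α * t) * α = (α * α) * (α * t * (α * t)) * α := by rw [hD.sq, one_mul]
        _ = α * (α * (α * t * (α * t)) * α) := by group
        _ = α * (α * t * (α * t)) := by rw [h3]
    · rw [e] at h
      calc α = c * (c⁻¹ * α * c) * c⁻¹ := by group
        _ = 1 := by rw [h]; group
    · -- otherwise `t` centralises `α`
      have h3 : t * α * t = 1 := mul_left_cancel (a := α) (by rw [mul_one, show α * (t * α * t) = α * t * (α * t) by group, h])
      apply hD.ne_one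
      calc α = t * (t * α * t) * t := by
            rw [show t * (t * α * t) * t = (t * t) * α * (t * t) by group, ht2, one_mul, mul_one]
        _ = 1 := by rw [h3, mul_one, ht2]

theorem Data.dvd_card : ∃ k, Nat.card G = 8 * k ∧ Odd k := by
  obtain ⟨S, hS⟩ := hD.exists_sylow
  refine ⟨(S : Subgroup G).index, ?_, ?_⟩
  · rw [← (S : Subgroup G).card_mul_index, hS, hD.card_C]
  · haveI : Fact (Nat.Prime 2) := ⟨Nat.prime_two⟩
    exact Nat.not_even_iff_odd.mp fun h => S.not_dvd_index (even_iff_two_dvd.mp h)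

/-- The order of the group. -/
theorem Data.card_eq (hconj : ∀ u : G, u * u = 1 → u ≠ 1 → IsConj α u)
    (hlin : ∀ l : G →* ℂˣ, l a = 1) : Nat.card G = 168 ∨ Nat.card G = 360 := by
  classical
  haveI := Fintype.ofFinite G
  choose A B hA hB hpA hpB using hD.values hconj
  have hG0 : (Nat.card G : ℂ) ≠ 0 := natCard_ne_zero
  have hrealA : ∀ χ : IrrCharacter G, conj ((χ : G → ℂ) α) = (χ : G → ℂ) α := fun χ => by
    rw [hA, map_intCast]
  have hrealB : ∀ χ : IrrCharacter G, conj ((χ : G → ℂ) a) = (χ : G → ℂ) a := fun χ => by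
    rw [hB, map_intCast]
  have hαa : ¬ IsConj α a := fun h => by
    obtain ⟨c, hc⟩ := isConj_iff.mp h
    have h4 := hD.orderOf_a
    rw [← hc, CfsgLib.StronglyEmbedded.orderOf_conj, hD.orderOf_alpha] at h4
    omega
  have colAA : ∑ χ : IrrCharacter G, (χ : G → ℂ) α * (χ : G → ℂ) α = 8 := by
    have h := sum_irr_mul_conj α α
    rw [if_pos (IsConj.refl α), hD.card_C] at h
    simpa [hrealA] using h
  have colBB : ∑ χ : IrrCharacter G, (χ : G → ℂ) a * (χ : G → ℂ) a = 4 := by
    have h := sum_irr_mul_conj a a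
    rw [if_pos (IsConj.refl a), hD.centralizer_a] at h
    simpa [hrealB] using h
  have colAB : ∑ χ : IrrCharacter G, (χ : G → ℂ) α * (χ : G → ℂ) a = 0 := by
    have h := sum_irr_mul_conj α a
    rw [if_neg hαa] at h
    simpa [hrealB] using h
  have colA : ∑ χ : IrrCharacter G, (χ : G → ℂ) 1 * (χ : G → ℂ) α = 0 := by
    rw [sum_irr_map_one_mul, if_neg hD.ne_one]
  have colB : ∑ χ : IrrCharacter G, (χ : G → ℂ) 1 * (χ : G → ℂ) a = 0 := by
    rw [sum_irr_map_one_mul, if_neg hD.a_ne_one]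
  have heq : ∀ x : G, (∀ χ : IrrCharacter G, conj ((χ : G → ℂ) x) = (χ : G → ℂ) x) →
      ∑ χ : IrrCharacter G, (χ : G → ℂ) α ^ 2 / (χ : G → ℂ) 1 * (χ : G → ℂ) x =
      (Nat.card G : ℂ)⁻¹ *
        ((∑ g : G, Nat.card {h : G // h * (α * (g * α * g⁻¹)) * h⁻¹ = x} : ℕ) : ℂ) := by
    intro x hx
    have e : ∀ χ : IrrCharacter G,
        (χ : G → ℂ) α ^ 2 / (χ : G → ℂ) 1 * (χ : G → ℂ) x =
        (Nat.card G : ℂ)⁻¹ * ∑ g : G, (χ : G → ℂ) (α * (g * α * g⁻¹)) *
          conj ((χ : G → ℂ) x) := by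
      intro χ
      rw [← Finset.sum_mul, sum_map_mul_conjugate, hx]
      field_simp
    rw [Finset.sum_congr rfl (fun χ _ => e χ), ← Finset.mul_sum, Finset.sum_comm, Nat.cast_sum]
    simp only [sum_irr_mul_conj_eq_card]
  refine order_eq (oneChar G) (fun χ => charDegree (χ : G → ℂ)) A B (Nat.card G) ?_ ?_ ?_
    (fun χ => charDegree_pos χ) ?_ hpA hpB ?_ ?_ ?_ ?_ ?_ hD.dvd_card ?_ ?_
  · exact (charDegree_eq_one_iff _).mpr (by simp)
  · have h := hA (oneChar G); rw [oneChar_apply] at h; exact_mod_cast h.symm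
  · have h := hB (oneChar G); rw [oneChar_apply] at h; exact_mod_cast h.symm
  · intro χ hχ
    obtain ⟨l, rfl⟩ := exists_linChar_eq χ ((charDegree_eq_one_iff χ).mp hχ)
    have hα : l α = 1 := by rw [← hD.a_sq, map_mul, hlin, one_mul]
    have h1 := hA (linChar l)
    have h2 := hB (linChar l)
    rw [linChar_apply, hα] at h1
    rw [linChar_apply, hlin] at h2
    have h : ((A (linChar l) : ℤ) : ℂ) = (B (linChar l) : ℤ) := h1.symm.trans h2
    exact_mod_cast h
  · simp only [hA] at colAA; exact_mod_cast colAA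
  · simp only [hB] at colBB; exact_mod_cast colBB
  · simp only [hA, hB] at colAB; exact_mod_cast colAB
  · simp only [hA, ← coe_charDegree] at colA; exact_mod_cast colA
  · simp only [hB, ← coe_charDegree] at colB; exact_mod_cast colB
  · have h := heq α hrealA
    rw [hD.sum_conjugators hconj, hD.card_alpha hconj, hD.card_C] at h
    simp only [hA, ← coe_charDegree] at h
    apply Rat.cast_injective (α := ℂ)
    push_cast at h ⊢
    rw [h]
    field_simp
  · have h := heq a hrealB
    rw [hD.sum_conjugators hconj, hD.card_a hconj, hD.centralizer_a] at h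
    simp only [hA, hB, ← coe_charDegree] at h
    apply Rat.cast_injective (α := ℂ)
    push_cast at h ⊢
    rw [h]
    field_simp

end CfsgLib.CentralizerD8
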