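import Cfsg.Agent.CentralizerD8.Simple
import Cfsg.Agent.Eq.Def_CaseTheorems
import Cfsg.Prelude.Def_CaseTheorems
import Mathlib

/-!
Fusion of the non-central involutions of a dihedral centralizer of order eight.
-/

set_option autoImplicit false

namespace CfsgLib.CentralizerD8

open CfsgLib.StronglyEmbedded (orderOf_two_iff orderOf_conj)

variable {G : Type*} [Group G] [Finite G] {α a b : G} (hD : Data α a b)
include hD

theorem Data.four_mem {g : G} (hg : g = b ∨ g = b * a ∨ g = b * α ∨ g = b * a⁻¹) :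
    g ∈ Subgroup.centralizer ({α} : Set G) :=
  Subgroup.mem_centralizer_singleton_iff.mpr (hD.four_facts hg).1

/-- Exchange of the two classes of non-central involutions. -/
theorem Data.swap : Data α a (b * a) := by
  obtain ⟨-, h2, hnot, hinv⟩ := hD.four_facts (g := b * a) (.inr (.inl rfl))
  exact ⟨hD.ne_one, hD.sq, hD.a_sq, h2, hinv, hnot, hD.four_mem (.inr (.inl rfl)), hD.card_C⟩

theorem Data.conj_b : a * b * a⁻¹ = b * α := by
  have h : b * a * b = a⁻¹ := by
    rw [← hD.b_inv, hD.b_inv']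
  calc a * b * a⁻¹ = a * b * (b * a * b) := by rw [h]
    _ = a * (b * b) * (a * b) := by group
    _ = α * b := by rw [hD.b_sq, mul_one, ← mul_assoc, hD.a_sq]
    _ = b * α := hD.b_alpha.symm

/-- If both classes are fused to `α`, all involutions are. -/
theorem Data.isConj_of_fused (h1 : IsConj α b) (h2 : IsConj α (b * a)) :
    ∀ u : G, u * u = 1 → u ≠ 1 → IsConj α u := by
  haveI : Fact (Nat.Prime 2) := ⟨Nat.prime_two⟩
  have hfour : ∀ g : G, (g = b ∨ g = b * a ∨ g = b * α ∨ g = b * a⁻¹) → IsConj α g := by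
    intro g hg
    rcases hg with rfl | rfl | rfl | rfl
    · exact h1
    · exact h2
    · exact h1.trans (isConj_iff.mpr ⟨a, hD.conj_b⟩)
    · refine h2.trans (isConj_iff.mpr ⟨a, ?_⟩)
      rw [hD.swap.conj_b, hD.a_inv, mul_assoc]
  obtain ⟨S, hS⟩ := hD.exists_sylow
  intro u hu hu1
  have hp : IsPGroup 2 (Subgroup.zpowers u) := IsPGroup.of_card (n := 1)
    (by rw [Nat.card_zpowers, orderOf_two_iff.mpr ⟨hu, hu1⟩, pow_one])
  obtain ⟨T, hT⟩ := hp.exists_le_sylow
  obtain ⟨c, hc⟩ := MulAction.exists_smul_eq G T S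
  have hmem : c * u * c⁻¹ ∈ Subgroup.centralizer ({α} : Set G) := by
    rw [← hS, ← hc]
    exact Subgroup.mem_map.mpr ⟨u, hT (Subgroup.mem_zpowers u), rfl⟩
  have hsq : c * u * c⁻¹ * (c * u * c⁻¹) = 1 := by
    calc c * u * c⁻¹ * (c * u * c⁻¹) = c * (u * u) * c⁻¹ := by group
      _ = 1 := by rw [hu]; group
  have hne : c * u * c⁻¹ ≠ 1 := fun e => hu1 (conj_eq_one_iff.mp e)
  have hcu : IsConj u (c * u * c⁻¹) := isConj_iff.mpr ⟨c, rfl⟩
  by_cases hα : c * u * c⁻¹ = α
  · rw [hα] at hcu; exact hcu.symm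
  · exact (hfour _ (hD.invol_list _ (Subgroup.mem_centralizer_singleton_iff.mp hmem) hsq hne hα)).trans
      hcu.symm

/-- With one class of involutions there is no subgroup of index two. -/
theorem Data.index_ne_two (hconj : ∀ u : G, u * u = 1 → u ≠ 1 → IsConj α u) (H : Subgroup G) :
    H.index ≠ 2 := by
  intro hH
  haveI := Subgroup.normal_of_index_eq_two hH
  have hα : α ∈ H := hD.a_sq ▸ Subgroup.mul_self_mem_of_index_two hH a
  have hinv : ∀ v : G, v * v = 1 → v ≠ 1 → v ∈ H := by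
    intro v hv2 hv1
    obtain ⟨c, hc⟩ := isConj_iff.mp (hconj v hv2 hv1)
    exact hc ▸ Subgroup.Normal.conj_mem inferInstance α hα c
  have hb1 : b ≠ 1 := fun h => hD.b_not (h ▸ Subgroup.one_mem _)
  obtain ⟨-, hba2, hbanot, -⟩ := hD.four_facts (g := b * a) (.inr (.inl rfl))
  have hbH := hinv b hD.b_sq hb1
  have haH : a ∈ H := by
    have := H.mul_mem (H.inv_mem hbH) (hinv (b * a) hba2 (fun h => hbanot (h ▸ Subgroup.one_mem _)))
    rwa [inv_mul_cancel_left] at this
  have hCH : Subgroup.centralizer ({α} : Set G) ≤ H := by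
    intro g hg
    rcases hD.list g (Subgroup.mem_centralizer_singleton_iff.mp hg) with
      (e | e | e | e) | (e | e | e | e) <;> rw [e]
    exacts [H.one_mem, haH, hα, H.inv_mem haH, hbH, H.mul_mem hbH haH, H.mul_mem hbH hα,
      H.mul_mem hbH (H.inv_mem haH)]
  have h8 := Subgroup.card_dvd_of_le hCH
  rw [hD.card_C] at h8
  obtain ⟨k, hk, hkodd⟩ := hD.dvd_card
  have hm := H.card_mul_index
  rw [hH, hk] at hm
  obtain ⟨j, hj⟩ := h8
  obtain ⟨i, hi⟩ := hkodd
  omega

/-- An unfused class gives a normal subgroup of index two avoiding it. -/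
theorem Data.exists_index_two (h : ¬ IsConj α b) :
    ∃ K : Subgroup G, K.Normal ∧ K.index = 2 ∧ b ∉ K := by
  haveI : Fact (Nat.Prime 2) := ⟨Nat.prime_two⟩
  obtain ⟨S, hS⟩ := hD.exists_sylow
  have hA : Subgroup.zpowers a ≤ (S : Subgroup G) := hS ▸ Subgroup.zpowers_le.mpr hD.a_mem
  have hrel : (Subgroup.zpowers a).relIndex (S : Subgroup G) = 2 := by
    have h := Subgroup.relIndex_mul_relIndex ⊥ (Subgroup.zpowers a) (S : Subgroup G) bot_le hA
    rw [Subgroup.relIndex_bot_left, Subgroup.relIndex_bot_left, Nat.card_zpowers, hD.orderOf_a,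
      hS, hD.card_C] at h
    rw [hS]
    omega
  rcases CfsgLib.Transfer.thompsonTransferLemma S _ hA hrel b (hD.orderOf_four (.inl rfl))
    (hS.symm ▸ hD.b_mem) hD.b_not with h' | ⟨c, hc⟩
  · exact h'
  · exfalso
    have h2 : orderOf (c * b * c⁻¹) = 2 := by rw [orderOf_conj, hD.orderOf_four (.inl rfl)]
    obtain ⟨hsq, hne⟩ := orderOf_two_iff.mp h2
    have hcα : c * b * c⁻¹ = α := by
      rcases hD.a_pow_mem _ hc with e | e | e | e
      · exact absurd e hne
      · rw [e, hD.a_sq] at hsq; exact absurd hsq hD.ne_one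
      · exact e
      · rw [e, ← mul_inv_rev, hD.a_sq, inv_eq_one] at hsq; exact absurd hsq hD.ne_one
    exact h (isConj_iff.mpr ⟨c, hcα⟩).symm

/-- A normal subgroup with cyclic trace on the centralizer gives `G = C O(G)`. -/
theorem Data.sup_oddCore_eq_top (N : Subgroup G) [N.Normal]
    (hcyc : IsCyclic (Subgroup.centralizer ({α} : Set G) ⊓ N : Subgroup G))
    (hα : α ∈ N)
    (hi : N.index * Nat.card (Subgroup.centralizer ({α} : Set G) ⊓ N : Subgroup G) = 8) :
    Subgroup.centralizer ({α} : Set G) ⊔ Cfsg.oddCore G = ⊤ := by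
  haveI : Fact (Nat.Prime 2) := ⟨Nat.prime_two⟩
  set C := Subgroup.centralizer ({α} : Set G) with hC
  set Q := C ⊓ N with hQ
  obtain ⟨k, hk, hkodd⟩ := hD.dvd_card
  have hQp : IsPGroup 2 Q := (IsPGroup.of_card (p := 2) (n := 3) (G := C) (by rw [hD.card_C]; rfl)).to_le
    inf_le_left
  set Q' := Q.subgroupOf N with hQ'
  have hQ'c : Nat.card Q' = Nat.card Q :=
    Nat.card_congr (Subgroup.subgroupOfEquivOfLe inf_le_right).toEquiv
  have hNk : Nat.card N = k * Nat.card Q := by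
    have hm := N.card_mul_index
    have hpos : 0 < Nat.card Q := Nat.card_pos
    have h8 : N.index * (k * Nat.card Q) = N.index * Nat.card N := by
      rw [mul_left_comm, hi, mul_comm k 8, ← hk, ← hm, mul_comm]
    have hi0 : 0 < N.index := Nat.pos_of_ne_zero Subgroup.index_ne_zero_of_finite
    exact (Nat.eq_of_mul_eq_mul_left hi0 h8).symm
  have hQ'i : ¬ 2 ∣ Q'.index := by
    have hm := Q'.card_mul_index
    rw [hQ'c, hNk, mul_comm k] at hm
    have hpos : 0 < Nat.card Q := Nat.card_pos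
    rw [Nat.eq_of_mul_eq_mul_left hpos hm]
    exact fun h => Nat.not_even_iff_odd.mpr hkodd (even_iff_two_dvd.mpr h)
  let P : Sylow 2 N :=
    ((hQp.of_equiv (Subgroup.subgroupOfEquivOfLe inf_le_right).symm)).toSylow hQ'i
  haveI hPc : IsCyclic (P : Subgroup N) :=
    (MulEquiv.isCyclic (Subgroup.subgroupOfEquivOfLe (inf_le_right : Q ≤ N))).mpr hcyc
  have hmin : (Nat.card N).minFac = 2 := by
    rw [Nat.minFac_eq_two_iff, show (2 : ℕ) = orderOf (⟨α, hα⟩ : N) by
      rw [Subgroup.orderOf_mk, hD.orderOf_alpha]]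
    exact orderOf_dvd_natCard _
  have hle := hPc.normalizer_le_centralizer hmin
  set f := MonoidHom.transferSylow P hle with hf
  have hcompl : f.ker.IsComplement' (P : Subgroup N) := MonoidHom.ker_transferSylow_isComplement' P hle
  have hPq : Nat.card (P : Subgroup N) = Nat.card Q := hQ'c
  have hker : Nat.card f.ker = k := by
    have := hcompl.card_mul_card
    rw [hPq, hNk] at this
    exact Nat.eq_of_mul_eq_mul_right Nat.card_pos this
  have hmem : ∀ n : N, n ∈ f.ker ↔ Odd (orderOf n) := by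
    intro n
    constructor
    · intro hn
      have : orderOf (⟨n, hn⟩ : f.ker) ∣ k := hker ▸ orderOf_dvd_natCard _
      rw [Subgroup.orderOf_mk] at this
      exact hkodd.of_dvd_nat this
    · intro hn
      rw [MonoidHom.mem_ker, ← orderOf_eq_one_iff]
      have h1 : orderOf (f n) ∣ orderOf n := orderOf_map_dvd f n
      obtain ⟨j, hj⟩ := IsPGroup.iff_orderOf.mp P.2 (f n)
      rw [hj] at h1 ⊢
      rcases j with _ | j
      · exact pow_zero 2
      · exact absurd (even_iff_two_dvd.mpr ((dvd_pow_self 2 (Nat.succ_ne_zero j)).trans h1))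
          (Nat.not_even_iff_odd.mpr hn)
  have hOn : (f.ker.map N.subtype).Normal := by
    refine ⟨fun x hx g => ?_⟩
    obtain ⟨n, hn, rfl⟩ := hx
    refine ⟨⟨g * n * g⁻¹, Subgroup.Normal.conj_mem inferInstance _ n.2 g⟩, ?_, rfl⟩
    rw [SetLike.mem_coe, hmem, Subgroup.orderOf_mk, orderOf_conj, Subgroup.orderOf_coe, ← hmem]
    exact hn
  have hOc : Nat.card (f.ker.map N.subtype) = k := by
    rw [Subgroup.card_map_of_injective (f := N.subtype) Subtype.val_injective, hker]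
  have hle' : f.ker.map N.subtype ≤ Cfsg.oddCore G :=
    le_sSup ⟨hOn, by rw [hOc]; exact Nat.coprime_two_right.mpr hkodd⟩
  refine eq_top_iff.mpr (le_trans ?_ (sup_le_sup_left hle' C))
  refine (Subgroup.eq_top_of_card_eq _ (Nat.dvd_antisymm (Subgroup.card_subgroup_dvd_card _) ?_)).ge
  rw [hk]
  refine Nat.Coprime.mul_dvd_of_dvd_of_dvd (Nat.Coprime.pow_left 3 (Nat.coprime_two_left.mpr hkodd))
    ?_ ?_
  · exact hD.card_C ▸ Subgroup.card_dvd_of_le (le_sup_left : C ≤ C ⊔ f.ker.map N.subtype)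
  · exact hOc.symm ▸ Subgroup.card_dvd_of_le (le_sup_right : _ ≤ C ⊔ f.ker.map N.subtype)

theorem Data.inf_zpowers_a (K : Subgroup G) (ha : a ∈ K) (hb : b ∉ K) :
    Subgroup.centralizer ({α} : Set G) ⊓ K = Subgroup.zpowers a := by
  refine le_antisymm (fun g hg => ?_)
    (le_inf (Subgroup.zpowers_le.mpr hD.a_mem) (Subgroup.zpowers_le.mpr ha))
  have hAK : Subgroup.zpowers a ≤ K := Subgroup.zpowers_le.mpr ha
  have hα : α ∈ Subgroup.zpowers a :=
    hD.a_sq ▸ Subgroup.mul_mem _ (Subgroup.mem_zpowers a) (Subgroup.mem_zpowers a)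
  have hmem : ∀ v ∈ Subgroup.zpowers a, b * v ∉ K := fun v hv h => hb (by
    have := K.mul_mem h (K.inv_mem (hAK hv))
    rwa [mul_inv_cancel_right] at this)
  rcases hD.list g (Subgroup.mem_centralizer_singleton_iff.mp hg.1) with
    (e | e | e | e) | (e | e | e | e)
  · exact e ▸ Subgroup.one_mem _
  · exact e ▸ Subgroup.mem_zpowers a
  · exact e ▸ hα
  · exact e ▸ Subgroup.inv_mem _ (Subgroup.mem_zpowers a)
  · exact absurd (e ▸ hg.2) hb
  · exact absurd (e ▸ hg.2) (hmem a (Subgroup.mem_zpowers a))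
  · exact absurd (e ▸ hg.2) (hmem α hα)
  · exact absurd (e ▸ hg.2) (hmem a⁻¹ (Subgroup.inv_mem _ (Subgroup.mem_zpowers a)))

/-- If neither class is fused then `G = C O(G)`. -/
theorem Data.sup_oddCore_of_not_fused (h1 : ¬ IsConj α b) (h2 : ¬ IsConj α (b * a)) :
    Subgroup.centralizer ({α} : Set G) ⊔ Cfsg.oddCore G = ⊤ := by
  haveI : Fact (Nat.Prime 2) := ⟨Nat.prime_two⟩
  obtain ⟨K₁, hK₁, hi₁, hb₁⟩ := hD.exists_index_two h1
  obtain ⟨K₂, hK₂, hi₂, hb₂⟩ := hD.swap.exists_index_two h2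
  haveI := hK₁; haveI := hK₂
  have hα : ∀ K : Subgroup G, K.index = 2 → α ∈ K := fun K hK =>
    hD.a_sq ▸ Subgroup.mul_self_mem_of_index_two hK a
  by_cases ha₁ : a ∈ K₁
  · refine hD.sup_oddCore_eq_top K₁ ?_ (hα K₁ hi₁) ?_
    · rw [hD.inf_zpowers_a K₁ ha₁ hb₁]; infer_instance
    · rw [hD.inf_zpowers_a K₁ ha₁ hb₁, Nat.card_zpowers, hD.orderOf_a, hi₁]
  by_cases ha₂ : a ∈ K₂
  · refine hD.sup_oddCore_eq_top K₂ ?_ (hα K₂ hi₂) ?_
    · rw [hD.swap.inf_zpowers_a K₂ ha₂ hb₂]; infer_instance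
    · rw [hD.swap.inf_zpowers_a K₂ ha₂ hb₂, Nat.card_zpowers, hD.orderOf_a, hi₂]
  have hba₁ : b * a ∈ K₁ := (Subgroup.mul_mem_iff_of_index_two hi₁).mpr (iff_of_false hb₁ ha₁)
  have hb₂' : b ∈ K₂ := by
    by_contra hb
    exact hb₂ ((Subgroup.mul_mem_iff_of_index_two hi₂).mpr (iff_of_false hb ha₂))
  have hinf : Subgroup.centralizer ({α} : Set G) ⊓ (K₁ ⊓ K₂) = Subgroup.zpowers α := by
    refine le_antisymm (fun g hg => ?_)
      (le_inf (Subgroup.zpowers_le.mpr hD.alpha_mem)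
        (Subgroup.zpowers_le.mpr ⟨hα K₁ hi₁, hα K₂ hi₂⟩))
    rcases hD.list g (Subgroup.mem_centralizer_singleton_iff.mp hg.1) with
      (e | e | e | e) | (e | e | e | e)
    · exact e ▸ Subgroup.one_mem _
    · exact absurd (e ▸ hg.2.1) ha₁
    · exact e ▸ Subgroup.mem_zpowers α
    · exact absurd (inv_mem_iff.mp (e ▸ hg.2.1 : a⁻¹ ∈ K₁)) ha₁
    · exact absurd (e ▸ hg.2.1) hb₁
    · exact absurd (e ▸ hg.2.2) hb₂
    · refine absurd ?_ hb₁
      have := K₁.mul_mem (e ▸ hg.2.1 : b * α ∈ K₁) (K₁.inv_mem (hα K₁ hi₁))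
      rwa [mul_inv_cancel_right] at this
    · refine absurd ?_ ha₂
      have := K₂.mul_mem (K₂.inv_mem hb₂') (e ▸ hg.2.2 : b * a⁻¹ ∈ K₂)
      rw [inv_mul_cancel_left] at this
      exact inv_mem_iff.mp this
  have hidx : (K₁ ⊓ K₂).index = 4 := by
    have h := Subgroup.relIndex_mul_index (inf_le_left : K₁ ⊓ K₂ ≤ K₁)
    have hrel : K₂.relIndex K₁ = 2 := by
      have hd : K₂.relIndex K₁ ∣ 2 := hi₂ ▸ Subgroup.relIndex_dvd_index_of_normal K₂ K₁
      rcases (Nat.dvd_prime Nat.prime_two).mp hd with e | e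
      · exact absurd (Subgroup.relIndex_eq_one.mp e hba₁) hb₂
      · exact e
    rw [Subgroup.inf_relIndex_left, hrel, hi₁] at h
    exact h.symm
  refine hD.sup_oddCore_eq_top (K₁ ⊓ K₂) ?_ ⟨hα K₁ hi₁, hα K₂ hi₂⟩ ?_
  · rw [hinf]; infer_instance
  · rw [hinf, Nat.card_zpowers, hD.orderOf_alpha, hidx]

end CfsgLib.CentralizerD8
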