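import Cfsg.Agent.CentralizerD8.Fusion
import Cfsg.Agent.S3277
import Mathlib

/-!
Exactly one class of non-central involutions fused to the centre: the symmetric groups of degree
four and five.
-/

set_option autoImplicit false

namespace CfsgLib.CentralizerD8

open CfsgLib.StronglyEmbedded (orderOf_two_iff)
open scoped Pointwise

variable {G : Type*} [Group G] [Finite G] {α a b : G} (hD : Data α a b)
include hD

/-- Symmetric group of degree four or five. -/
theorem Data.half_fused (h1 : ¬ IsConj α b) (h2 : IsConj α (b * a)) :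
    Nonempty (G ≃* Equiv.Perm (Fin 4)) ∨ Nonempty (G ≃* Equiv.Perm (Fin 5)) := by
  classical
  haveI : Fact (Nat.Prime 2) := ⟨Nat.prime_two⟩
  haveI : Fact (Nat.Prime 3) := ⟨Nat.prime_three⟩
  haveI := Fintype.ofFinite G
  obtain ⟨K, hK, hKi, hbK⟩ := hD.exists_index_two h1
  haveI := hK
  set C := Subgroup.centralizer ({α} : Set G) with hC
  have hαK : α ∈ K := hD.a_sq ▸ Subgroup.mul_self_mem_of_index_two hKi a
  have hconjK : ∀ g v : G, v ∈ K → g * v * g⁻¹ ∈ K := fun g v hv => hK.conj_mem v hv g
  obtain ⟨hzc, hz2, hznot, hzinv⟩ := hD.four_facts (g := b * a) (.inr (.inl rfl))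
  obtain ⟨c, hc⟩ := isConj_iff.mp h2
  have hzK : b * a ∈ K := hc ▸ hconjK c α hαK
  have haK : a ∉ K := fun h => hbK (by
    have := K.mul_mem hzK (K.inv_mem h)
    rwa [mul_inv_cancel_right] at this)
  have hwK : b * a⁻¹ ∈ K := by
    have := K.mul_mem hzK hαK
    rwa [mul_assoc, ← hD.a_inv] at this
  obtain ⟨z, hzd⟩ : ∃ z : G, z = b * a := ⟨_, rfl⟩
  obtain ⟨w, hwd⟩ : ∃ w : G, w = b * a⁻¹ := ⟨_, rfl⟩
  rw [← hzd] at hzc hz2 hznot hzinv hzK h2 hc
  rw [← hwd] at hwK
  obtain ⟨hwc, hw2, hwnot, -⟩ := hD.four_facts (g := w) (.inr (.inr (.inr hwd)))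
  have hzw : z * α = w := by rw [hzd, hwd, mul_assoc, ← hD.a_inv]
  set V := C ⊓ K with hVdef
  have hVlist : ∀ v ∈ V, v = 1 ∨ v = α ∨ v = z ∨ v = w := by
    intro v hv
    rcases hD.list v (Subgroup.mem_centralizer_singleton_iff.mp hv.1) with
      (e | e | e | e) | (e | e | e | e)
    · exact .inl e
    · exact absurd (e ▸ hv.2) haK
    · exact .inr (.inl e)
    · exact absurd (inv_mem_iff.mp (e ▸ hv.2 : a⁻¹ ∈ K)) haK
    · exact absurd (e ▸ hv.2) hbK
    · exact .inr (.inr (.inl (e.trans hzd.symm)))
    · refine absurd ?_ hbK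
      have := K.mul_mem (e ▸ hv.2 : b * α ∈ K) (K.inv_mem hαK)
      rwa [mul_inv_cancel_right] at this
    · exact .inr (.inr (.inr (e.trans hwd.symm)))
  have hzV : z ∈ V := ⟨Subgroup.mem_centralizer_singleton_iff.mpr hzc, hzK⟩
  have hwV : w ∈ V := ⟨Subgroup.mem_centralizer_singleton_iff.mpr hwc, hwK⟩
  have hαV : α ∈ V := ⟨hD.alpha_mem, hαK⟩
  have hz1 : z ≠ 1 := fun e => hznot (e ▸ Subgroup.one_mem _)
  have hw1 : w ≠ 1 := fun e => hwnot (e ▸ Subgroup.one_mem _)
  have hαA : α ∈ Subgroup.zpowers a :=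
    hD.a_sq ▸ Subgroup.mul_mem _ (Subgroup.mem_zpowers a) (Subgroup.mem_zpowers a)
  have hzα : z ≠ α := fun e => hznot (e ▸ hαA)
  have hwα : w ≠ α := fun e => hwnot (e ▸ hαA)
  have hzw' : z ≠ w := fun e => hD.ne_one (mul_eq_left.mp (hzw.trans e.symm))
  have hVcard : Nat.card V = 4 := by
    haveI := Fintype.ofFinite V
    have hu : (Finset.univ : Finset V) = {1, ⟨α, hαV⟩, ⟨z, hzV⟩, ⟨w, hwV⟩} := by
      refine (Finset.eq_univ_iff_forall.mpr fun v => ?_).symm
      rcases hVlist v v.2 with e | e | e | e <;> simp [Subtype.ext_iff, e]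
    rw [Nat.card_eq_fintype_card, ← Finset.card_univ, hu]
    simp [Subtype.ext_iff, Ne.symm hD.ne_one, Ne.symm hz1, Ne.symm hw1, Ne.symm hzα, Ne.symm hwα,
      hzw']
  have hVsq : ∀ v ∈ V, v * v = 1 := by
    intro v hv
    rcases hVlist v hv with rfl | rfl | rfl | rfl
    exacts [mul_one 1, hD.sq, hz2, hw2]
  have hVab : ∀ u ∈ V, ∀ v ∈ V, u * v = v * u := fun u hu v hv => by
    rw [← inv_eq_of_mul_eq_one_right (hVsq _ (V.mul_mem hu hv)), mul_inv_rev,
      inv_eq_of_mul_eq_one_right (hVsq u hu), inv_eq_of_mul_eq_one_right (hVsq v hv)]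
  -- fusion inside `K`
  have hinK : ∀ v, IsConj α v → ∃ g ∈ K, g * α * g⁻¹ = v := by
    intro v hv
    obtain ⟨g, hg⟩ := isConj_iff.mp hv
    by_cases hgK : g ∈ K
    · exact ⟨g, hgK, hg⟩
    · refine ⟨g * b, (Subgroup.mul_mem_iff_of_index_two hKi).mpr (iff_of_false hgK hbK), ?_⟩
      rw [show g * b * α * (g * b)⁻¹ = g * (b * α * b⁻¹) * g⁻¹ by group, hD.b_alpha,
        mul_inv_cancel_right, hg]
  have hwconj : IsConj α w := h2.trans (isConj_iff.mpr ⟨a, by
    rw [hzd, hwd, hD.swap.conj_b, hD.a_inv, mul_assoc]⟩)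
  have hVconj : ∀ v ∈ V, v ≠ 1 → IsConj α v := by
    intro v hv hv1
    rcases hVlist v hv with rfl | rfl | rfl | rfl
    exacts [absurd rfl hv1, IsConj.refl _, h2, hwconj]
  -- all involutions of `K`
  obtain ⟨S, hS⟩ := hD.exists_sylow
  have hinvK : ∀ u ∈ K, u * u = 1 → u ≠ 1 → IsConj α u := by
    intro u huK hu2 hu1
    have hp : IsPGroup 2 (Subgroup.zpowers u) := IsPGroup.of_card (n := 1)
      (by rw [Nat.card_zpowers, orderOf_two_iff.mpr ⟨hu2, hu1⟩, pow_one])
    obtain ⟨T, hT⟩ := hp.exists_le_sylow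
    obtain ⟨g, hg⟩ := MulAction.exists_smul_eq G T S
    have hmem : g * u * g⁻¹ ∈ V := by
      refine ⟨?_, hconjK g u huK⟩
      change g * u * g⁻¹ ∈ C
      rw [hC, ← hS, ← hg]
      exact Subgroup.mem_map.mpr ⟨u, hT (Subgroup.mem_zpowers u), rfl⟩
    exact (hVconj _ hmem (fun e => hu1 (conj_eq_one_iff.mp e))).trans
      (isConj_iff.mpr ⟨g⁻¹, by group⟩)
  -- the normalizer of `V` inside `K`
  set N := K ⊓ Subgroup.normalizer (V : Set G) with hNdef
  have hfus : ∀ g ∈ K, g * α * g⁻¹ ∈ V → g ∈ Subgroup.normalizer (V : Set G) := by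
    intro g hgK hg
    have hle : ∀ v ∈ V, g * v * g⁻¹ ∈ V := by
      intro v hv
      -- `g V g⁻¹` centralises `g α g⁻¹`, hence equals `V`
      set u := g * α * g⁻¹ with hu
      have hu1 : u ≠ 1 := fun e => hD.ne_one (conj_eq_one_iff.mp e)
      obtain ⟨g', hg'⟩ := isConj_iff.mp (hVconj u hg hu1)
      let ι : V → (Subgroup.centralizer ({u} : Set G) ⊓ K : Subgroup G) := fun v => ⟨v.1,
        Subgroup.mem_centralizer_singleton_iff.mpr (hVab _ v.2 u hg), v.2.2⟩
      have hcard : Nat.card (Subgroup.centralizer ({u} : Set G) ⊓ K : Subgroup G) = Nat.card V := by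
        refine (Nat.card_congr ((MulAut.conj g').toEquiv.subtypeEquiv fun t => ?_)).symm
        rw [hVdef, hC, Subgroup.mem_inf, Subgroup.mem_inf,
          Subgroup.mem_centralizer_singleton_iff, Subgroup.mem_centralizer_singleton_iff]
        simp only [MulEquiv.toEquiv_eq_coe, MulEquiv.coe_toEquiv, MulAut.conj_apply]
        refine and_congr ⟨fun h => ?_, fun h => ?_⟩ ⟨hconjK g' t, fun h => ?_⟩
        · rw [← hg']
          calc g' * t * g'⁻¹ * (g' * α * g'⁻¹) = g' * (t * α) * g'⁻¹ := by group
            _ = g' * α * g'⁻¹ * (g' * t * g'⁻¹) := by rw [h]; group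
        · rw [← hg'] at h
          calc t * α = g'⁻¹ * (g' * t * g'⁻¹ * (g' * α * g'⁻¹)) * g' := by group
            _ = α * t := by rw [h]; group
        · have := hconjK g'⁻¹ _ h
          simpa [mul_assoc] using this
      have hbij : Function.Bijective ι :=
        Function.Injective.bijective_of_nat_card_le
          (fun x y h => Subtype.ext (congrArg Subtype.val h :)) hcard.le
      obtain ⟨v', hv'⟩ := hbij.2 ⟨g * v * g⁻¹, Subgroup.mem_centralizer_singleton_iff.mpr (by
        rw [hu]
        calc g * v * g⁻¹ * (g * α * g⁻¹) = g * (v * α) * g⁻¹ := by group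
          _ = g * α * g⁻¹ * (g * v * g⁻¹) := by rw [hVab v hv α hαV]; group), hconjK g v hv.2⟩
      have : (v' : G) = g * v * g⁻¹ := congrArg Subtype.val hv'
      exact this ▸ v'.2
    exact Subgroup.mem_normalizer_fintype (S := (V : Set G)) hle
  have hN12 : Nat.card N = 12 := by
    have hfib : ∀ v ∈ ({α, z, w} : Finset G),
        (Finset.univ.filter fun g : G => g ∈ N ∧ g * α * g⁻¹ = v).card = 4 := by
      intro v hv
      have hvV : v ∈ V ∧ v ≠ 1 := by
        simp only [Finset.mem_insert, Finset.mem_singleton] at hv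
        rcases hv with rfl | rfl | rfl
        exacts [⟨hαV, hD.ne_one⟩, ⟨hzV, hz1⟩, ⟨hwV, hw1⟩]
      obtain ⟨g₀, hg₀K, hg₀⟩ := hinK v (hVconj v hvV.1 hvV.2)
      rw [← hVcard, Nat.card_eq_fintype_card, Fintype.card_subtype]
      refine Finset.card_bij' (fun g _ => g₀⁻¹ * g) (fun t _ => g₀ * t) ?_ ?_ ?_ ?_
      · intro g hg
        obtain ⟨⟨hgK, -⟩, hgv⟩ := (Finset.mem_filter.mp hg).2
        refine Finset.mem_filter.mpr ⟨Finset.mem_univ _,
          Subgroup.mem_centralizer_singleton_iff.mpr ?_, K.mul_mem (K.inv_mem hg₀K) hgK⟩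
        calc g₀⁻¹ * g * α = g₀⁻¹ * (g * α * g⁻¹) * g := by group
          _ = g₀⁻¹ * (g₀ * α * g₀⁻¹) * g := by rw [hgv, hg₀]
          _ = α * (g₀⁻¹ * g) := by group
      · intro t ht
        obtain ⟨htC, htK⟩ := (Finset.mem_filter.mp ht).2
        have hconjv : g₀ * t * α * (g₀ * t)⁻¹ = v := by
          rw [← hg₀, show g₀ * t * α * (g₀ * t)⁻¹ = g₀ * (t * α) * t⁻¹ * g₀⁻¹ by group,
            Subgroup.mem_centralizer_singleton_iff.mp htC]
          group
        exact Finset.mem_filter.mpr ⟨Finset.mem_univ _, ⟨K.mul_mem hg₀K htK,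
          hfus _ (K.mul_mem hg₀K htK) (hconjv.symm ▸ hvV.1)⟩, hconjv⟩
      · intro g _; exact mul_inv_cancel_left _ _
      · intro t _; exact inv_mul_cancel_left _ _
    rw [Nat.card_eq_fintype_card, Fintype.card_subtype]
    have hmap : Set.MapsTo (fun g : G => g * α * g⁻¹)
        ((Finset.univ.filter fun g : G => g ∈ N : Finset G) : Set G)
        (({α, z, w} : Finset G) : Set G) := by
      intro g hg
      have hgN := (Finset.mem_filter.mp (Finset.mem_coe.mp hg)).2
      rcases hVlist _ ((Subgroup.mem_normalizer_iff.mp hgN.2 α).mp hαV) with e | e | e | e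
      · exact absurd (conj_eq_one_iff.mp e) hD.ne_one
      all_goals simp [e]
    rw [Finset.card_eq_sum_card_fiberwise hmap,
      Finset.sum_congr rfl (g := fun _ => 4) (fun v hv => by
        rw [Finset.filter_filter]; exact hfib v hv),
      Finset.sum_const, smul_eq_mul]
    simp [Ne.symm hzα, Ne.symm hwα, hzw']
  -- elements centralising `K` are trivial
  have hCK : ∀ r : G, (∀ k ∈ K, r * k = k * r) → r ∈ K := by
    intro r hr
    have hrα := hr α hαK
    have hrz := hr z hzK
    rcases hD.list r hrα with (e | e | e | e) | (e | e | e | e)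
    · exact e ▸ K.one_mem
    · exfalso
      subst e
      rw [mul_inv_eq_iff_eq_mul.mpr hrz.symm] at hzinv
      exact hD.a_inv_ne hzinv.symm
    · exact e ▸ hαK
    · exfalso
      have hza : z * a = a * z := by
        have := ((show Commute a⁻¹ z from e ▸ hrz).inv_left)
        rw [inv_inv] at this
        exact this.symm
      rw [mul_inv_eq_iff_eq_mul.mpr hza] at hzinv
      exact hD.a_inv_ne hzinv.symm
    · exfalso
      rw [e, hzd, ← mul_assoc, hD.b_sq, one_mul] at hrz
      have h4 := hD.b_inv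
      rw [hD.b_inv', ← hrz] at h4
      exact hD.a_inv_ne h4.symm
    · rw [e, ← hzd]; exact hzK
    · exfalso
      rw [e, hzd] at hrz
      have e1 : b * α * (b * a) = α * a := by
        rw [show b * α * (b * a) = b * (α * b) * a by group, ← hD.b_alpha, ← mul_assoc b b α,
          hD.b_sq, one_mul]
      have e2 : b * a * (b * α) = a⁻¹ * α := by
        rw [show b * a * (b * α) = b * a * b * α by group]
        nth_rewrite 2 [← hD.b_inv']
        rw [hD.b_inv]
      rw [e1, e2] at hrz
      have h5 : a * α = a⁻¹ * α := by rw [← hrz]; exact hD.alpha_a.symm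
      exact hD.a_inv_ne (mul_right_cancel h5).symm
    · rw [e, ← hwd]; exact hwK
  obtain ⟨k, hk, hkodd⟩ := hD.dvd_card
  have hKk : Nat.card K = 4 * k := by
    have := K.card_mul_index
    rw [hKi, hk] at this
    omega
  set αK : K := ⟨α, hαK⟩ with hαKd
  set zK : K := ⟨z, hzK⟩ with hzKd
  have hcentK : Nat.card (Subgroup.centralizer ({αK} : Set K)) = 4 := by
    rw [← hVcard]
    refine Nat.card_congr
      { toFun := fun v => ⟨((v : K) : G), ?_, (v : K).2⟩
        invFun := fun v => ⟨⟨v.1, v.2.2⟩, ?_⟩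
        left_inv := fun v => rfl
        right_inv := fun v => rfl }
    · exact Subgroup.mem_centralizer_singleton_iff.mpr
        (congrArg Subtype.val (Subgroup.mem_centralizer_singleton_iff.mp v.2))
    · exact Subgroup.mem_centralizer_singleton_iff.mpr
        (Subtype.ext (Subgroup.mem_centralizer_singleton_iff.mp v.2.1))
  have hxK : orderOf αK = 2 := by rw [hαKd, Subgroup.orderOf_mk, hD.orderOf_alpha]
  by_cases hE : K ≤ Subgroup.normalizer (V : Set G)
  · -- degree four
    left
    have hK12 : Nat.card K = 12 := by rw [← hN12, hNdef, inf_of_le_left hE]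
    have hG24 : Nat.card G = 24 := by
      have := K.card_mul_index
      rw [hK12, hKi] at this
      omega
    obtain ⟨P⟩ : Nonempty (Sylow 3 G) := inferInstance
    have hP : ∀ Q : Sylow 3 G, Nat.card (Q : Subgroup G) = 3 := fun Q => by
      rw [Sylow.card_eq_multiplicity, hG24, show (24 : ℕ) = 3 ^ 1 * 8 by norm_num,
        Nat.factorization_mul (by norm_num) (by norm_num), Finsupp.add_apply,
        Nat.Prime.factorization_pow Nat.prime_three, Finsupp.single_eq_same,
        Nat.factorization_eq_zero_of_not_dvd (by norm_num), add_zero, pow_one]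
    have hPV : ∀ x ∈ (P : Subgroup G), x ≠ 1 → x * α ≠ α * x := by
      intro x hx hx1 hcomm
      have h8 : orderOf (⟨x, Subgroup.mem_centralizer_singleton_iff.mpr hcomm⟩ : C) ∣ Nat.card C :=
        orderOf_dvd_natCard _
      have h3 : orderOf (⟨x, hx⟩ : (P : Subgroup G)) ∣ Nat.card (P : Subgroup G) := orderOf_dvd_natCard _
      rw [Subgroup.orderOf_mk] at h8 h3
      rw [hP] at h3
      rw [hC, hD.card_C] at h8
      have h := Nat.dvd_gcd h8 h3
      norm_num at h
      exact hx1 h
    have hPK : (P : Subgroup G) ≤ K := by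
      intro x hx
      have hx3 : x ^ 3 = 1 := by
        have h := pow_card_eq_one' (x := (⟨x, hx⟩ : (P : Subgroup G)))
        rw [hP] at h
        exact congrArg Subtype.val h
      by_contra hxK'
      have h2x : x * x ∈ K := Subgroup.mul_self_mem_of_index_two hKi x
      apply hxK'
      have := K.mul_mem h2x (K.inv_mem (K.one_mem))
      rw [show x = (x * x)⁻¹ by
        rw [eq_inv_iff_mul_eq_one, ← hx3, pow_three]]
      exact K.inv_mem h2x
    have hn4 : Nat.card (Sylow 3 G) = 4 := by
      have hne1 : Nat.card (Sylow 3 G) ≠ 1 := by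
        intro h
        haveI : Subsingleton (Sylow 3 G) := (Nat.card_eq_one_iff_unique.1 h).1
        haveI hPn : (P : Subgroup G).Normal := P.normal_of_subsingleton
        obtain ⟨⟨x, hx⟩, hxo⟩ := exists_prime_orderOf_dvd_card' (G := (P : Subgroup G)) 3 (by rw [hP])
        rw [Subgroup.orderOf_mk] at hxo
        have hx1 : x ≠ 1 := by rintro rfl; rw [orderOf_one] at hxo; omega
        have hm1 : x * α * x⁻¹ * α⁻¹ ∈ (P : Subgroup G) := by
          have := (P : Subgroup G).mul_mem hx (hPn.conj_mem _ ((P : Subgroup G).inv_mem hx) α)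
          rwa [show x * (α * x⁻¹ * α⁻¹) = x * α * x⁻¹ * α⁻¹ by group] at this
        have hm2 : x * α * x⁻¹ * α⁻¹ ∈ V :=
          V.mul_mem ((Subgroup.mem_normalizer_iff.mp (hE (hPK hx)) α).mp hαV) (V.inv_mem hαV)
        have h3 : orderOf (⟨_, hm1⟩ : (P : Subgroup G)) ∣ Nat.card (P : Subgroup G) :=
          orderOf_dvd_natCard _
        have h4 : orderOf (⟨_, hm2⟩ : V) ∣ Nat.card V := orderOf_dvd_natCard _
        rw [Subgroup.orderOf_mk] at h3 h4
        rw [hP] at h3
        rw [hVcard] at h4
        have h := Nat.dvd_gcd h4 h3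
        norm_num at h
        exact hPV x hx hx1 (mul_inv_eq_iff_eq_mul.mp (mul_inv_eq_one.mp h))
      have hd : Nat.card (Sylow 3 G) ∣ 8 := by
        have h := (P : Subgroup G).card_mul_index
        rw [hP, hG24] at h
        exact (show (P : Subgroup G).index = 8 by omega) ▸ P.card_dvd_index
      have hm := card_sylow_modEq_one 3 G
      rw [Nat.ModEq] at hm
      have := Nat.le_of_dvd (by norm_num) hd
      interval_cases hcc : Nat.card (Sylow 3 G) <;> omega
    set f := MulAction.toPermHom G (Sylow 3 G) with hf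
    have hinj : Function.Injective f := by
      rw [← MonoidHom.ker_eq_bot_iff, Subgroup.eq_bot_iff_forall]
      intro r hr
      have hfix : ∀ Q : Sylow 3 G, r • Q = Q := fun Q =>
        Equiv.congr_fun (MonoidHom.mem_ker.mp hr) Q
      have hR : ∀ m ∈ f.ker, m ∈ K → m = 1 := by
        intro m hm hmK
        by_contra hm1
        have hd12 : orderOf (⟨m, hmK⟩ : K) ∣ 12 := hK12 ▸ orderOf_dvd_natCard _
        rw [Subgroup.orderOf_mk] at hd12
        by_cases hev : 2 ∣ orderOf m
        · obtain ⟨j, hj⟩ := hev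
          have hj0 : j ≠ 0 := by rintro rfl; have := orderOf_pos m; omega
          have hu : orderOf (m ^ j) = 2 := by
            rw [orderOf_pow' m hj0, hj, Nat.gcd_eq_right (Dvd.intro_left 2 rfl),
              Nat.mul_div_cancel _ (Nat.pos_of_ne_zero hj0)]
          obtain ⟨hu2, hu1⟩ := orderOf_two_iff.mp hu
          obtain ⟨g, hg⟩ := isConj_iff.mp (hinvK _ (K.pow_mem hmK j) hu2 hu1).symm
          have hαker : α ∈ f.ker := hg ▸ f.normal_ker.conj_mem _ (f.ker.pow_mem hm j) g
          -- then `α` normalises `P`, so it centralises it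
          obtain ⟨⟨x, hx⟩, hxo⟩ := exists_prime_orderOf_dvd_card' (G := (P : Subgroup G)) 3 (by rw [hP])
          rw [Subgroup.orderOf_mk] at hxo
          have hx1 : x ≠ 1 := by rintro rfl; rw [orderOf_one] at hxo; omega
          have hαN : α ∈ Subgroup.normalizer ((P : Subgroup G) : Set G) :=
            Sylow.smul_eq_iff_mem_normalizer.mp (Equiv.congr_fun (MonoidHom.mem_ker.mp hαker) P)
          have hm1' : x * α * x⁻¹ * α⁻¹ ∈ (P : Subgroup G) := by
            have := (P : Subgroup G).mul_mem hx
              ((Subgroup.mem_normalizer_iff.mp hαN _).mp ((P : Subgroup G).inv_mem hx))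
            rwa [show x * (α * x⁻¹ * α⁻¹) = x * α * x⁻¹ * α⁻¹ by group] at this
          have hm2 : x * α * x⁻¹ * α⁻¹ ∈ V :=
            V.mul_mem ((Subgroup.mem_normalizer_iff.mp (hE (hPK hx)) α).mp hαV) (V.inv_mem hαV)
          have h3 : orderOf (⟨_, hm1'⟩ : (P : Subgroup G)) ∣ Nat.card (P : Subgroup G) :=
            orderOf_dvd_natCard _
          have h4 : orderOf (⟨_, hm2⟩ : V) ∣ Nat.card V := orderOf_dvd_natCard _
          rw [Subgroup.orderOf_mk] at h3 h4
          rw [hP] at h3
          rw [hVcard] at h4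
          have h := Nat.dvd_gcd h4 h3
          norm_num at h
          exact hPV x hx hx1 (mul_inv_eq_iff_eq_mul.mp (mul_inv_eq_one.mp h))
        · -- `m` has order three and lies in every Sylow 3-subgroup
          have h3 : orderOf m = 3 := by
            have hne : orderOf m ≠ 1 := fun e => hm1 (orderOf_eq_one_iff.mp e)
            have := Nat.le_of_dvd (by norm_num) hd12
            interval_cases hc : orderOf m <;> omega
          have hall : ∀ Q : Sylow 3 G, Subgroup.zpowers m = (Q : Subgroup G) := by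
            intro Q
            have hN' : m ∈ Subgroup.normalizer ((Q : Subgroup G) : Set G) :=
              Sylow.smul_eq_iff_mem_normalizer.mp (Equiv.congr_fun (MonoidHom.mem_ker.mp hm) Q)
            have hp : IsPGroup 3 (Subgroup.zpowers m ⊔ (Q : Subgroup G) : Subgroup G) :=
              IsPGroup.to_sup_of_normal_right'
                (IsPGroup.of_card (n := 1) (by rw [Nat.card_zpowers, h3, pow_one])) Q.2
                (Subgroup.zpowers_le.mpr hN')
            have hle : Subgroup.zpowers m ≤ (Q : Subgroup G) := by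
              rw [← Q.3 hp le_sup_right]; exact le_sup_left
            exact Subgroup.eq_of_le_of_card_ge hle (by rw [hP, Nat.card_zpowers, h3])
          haveI : Subsingleton (Sylow 3 G) :=
            ⟨fun Q Q' => Sylow.ext ((hall Q).symm.trans (hall Q'))⟩
          rw [Nat.card_of_subsingleton P] at hn4
          omega
      refine hR r hr (hCK r fun v hv => ?_)
      have hcm : r * v * r⁻¹ * v⁻¹ = 1 :=
        hR _ (by
          have := f.ker.mul_mem hr (f.normal_ker.conj_mem _ (f.ker.inv_mem hr) v)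
          rwa [show r * (v * r⁻¹ * v⁻¹) = r * v * r⁻¹ * v⁻¹ by group] at this)
          (K.mul_mem (hconjK r v hv) (K.inv_mem hv))
      exact mul_inv_eq_iff_eq_mul.mp (mul_inv_eq_one.mp hcm)
    haveI := Fintype.ofFinite (Sylow 3 G)
    have e : Sylow 3 G ≃ Fin 4 := Fintype.equivFinOfCardEq (by rw [← Nat.card_eq_fintype_card, hn4])
    exact ⟨MulEquiv.ofBijective (e.permCongrHom.toMonoidHom.comp f)
      (Function.Injective.bijective_of_nat_card_le (e.permCongrHom.injective.comp hinj)
        (by rw [hG24, Nat.card_perm, Nat.card_fin]; rfl))⟩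
  · -- degree five
    right
    have hKA : Nonempty (K ≃* alternatingGroup (Fin 5)) := by
      refine Cfsg.Agent.S3277.result αK hxK hcentK ?_ ?_ ?_
      · intro v hv
        have h : ((v : K) : G) ∈ V := ⟨Subgroup.mem_centralizer_singleton_iff.mpr
          (congrArg Subtype.val (Subgroup.mem_centralizer_singleton_iff.mp hv)), (v : K).2⟩
        rw [pow_two]
        exact Subtype.ext (hVsq _ h)
      · rintro ⟨P, O, hO, hcompl⟩
        haveI := hO
        have hO' : Odd (Nat.card O) := by
          have h := hcompl.card_mul_card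
          have hPc : Nat.card (P : Subgroup K) = 4 := by
            rw [Sylow.card_eq_multiplicity, hKk, show (4 : ℕ) = 2 ^ 2 by norm_num,
              Nat.factorization_mul (by norm_num) (by obtain ⟨j, hj⟩ := hkodd; omega),
              Finsupp.add_apply, Nat.Prime.factorization_pow Nat.prime_two, Finsupp.single_eq_same,
              Nat.factorization_eq_zero_of_not_dvd (fun h =>
                Nat.not_even_iff_odd.mpr hkodd (even_iff_two_dvd.mpr h)), add_zero]
          rw [hPc, hKk] at h
          rw [show Nat.card O = k by omega]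
          exact hkodd
        have hQ : Nat.card (K ⧸ O) = 2 ^ 2 := by
          have h := Subgroup.card_eq_card_quotient_mul_card_subgroup O
          have h' := hcompl.card_mul_card
          have hPc : Nat.card (P : Subgroup K) = 2 ^ 2 := by
            rw [Sylow.card_eq_multiplicity, hKk, show (4 : ℕ) = 2 ^ 2 by norm_num,
              Nat.factorization_mul (by norm_num) (by obtain ⟨j, hj⟩ := hkodd; omega),
              Finsupp.add_apply, Nat.Prime.factorization_pow Nat.prime_two, Finsupp.single_eq_same,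
              Nat.factorization_eq_zero_of_not_dvd (fun h =>
                Nat.not_even_iff_odd.mpr hkodd (even_iff_two_dvd.mpr h)), add_zero]
          rw [hPc] at h'
          have hpos : 0 < Nat.card O := Nat.card_pos
          exact Nat.eq_of_mul_eq_mul_right hpos (by rw [← h, ← h', mul_comm])
        haveI : IsMulCommutative (K ⧸ O) := IsPGroup.isMulCommutative_of_card_eq_prime_sq hQ
        obtain ⟨g, hgK, hg⟩ := hinK z h2
        have hcm : (⟨g, hgK⟩ : K) * αK * (⟨g, hgK⟩ : K)⁻¹ * αK⁻¹ ∈ O := by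
          rw [← QuotientGroup.eq_one_iff]
          simp only [QuotientGroup.mk_mul, QuotientGroup.mk_inv]
          rw [(IsMulCommutative.is_comm (M := K ⧸ O)).comm ((⟨g, hgK⟩ : K) : K ⧸ O) (αK : K ⧸ O)]
          group
        have heq : (⟨g, hgK⟩ : K) * αK * (⟨g, hgK⟩ : K)⁻¹ * αK⁻¹ = ⟨w, hwK⟩ := Subtype.ext (by
          simp only [hαKd, Subgroup.coe_mul, Subgroup.coe_inv]
          rw [hg, hD.alpha_inv, hzw])
        rw [heq] at hcm
        have hd := orderOf_dvd_natCard (⟨⟨w, hwK⟩, hcm⟩ : O)
        rw [Subgroup.orderOf_mk, Subgroup.orderOf_mk, orderOf_two_iff.mpr ⟨hw2, hw1⟩] at hd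
        exact Nat.not_even_iff_odd.mpr hO' (even_iff_two_dvd.mpr hd)
      · intro E hEn hEe
        haveI := hEn
        have hinvE : ∀ u : K, u ∈ E → u ≠ 1 → αK ∈ E := by
          intro u hu hu1
          have hsq : (u : G) * (u : G) = 1 := by
            have := congrArg Subtype.val (hEe.2 u hu)
            rwa [SubmonoidClass.coe_pow, pow_two, OneMemClass.coe_one] at this
          obtain ⟨g, hgK, hg⟩ := hinK u (hinvK _ u.2 hsq (fun e => hu1 (Subtype.ext e)))
          have := hEn.conj_mem u hu (⟨g, hgK⟩ : K)⁻¹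
          rwa [show (⟨g, hgK⟩ : K)⁻¹ * u * (⟨g, hgK⟩ : K)⁻¹⁻¹ = αK from Subtype.ext (by
            simp only [hαKd, Subgroup.coe_mul, Subgroup.coe_inv, inv_inv]
            rw [← hg]; group)] at this
        have hmemV : ∀ u : K, u ∈ E → αK ∈ E → (u : G) ∈ V := by
          intro u hu hαE
          have := hEe.1.is_comm.comm (⟨u, hu⟩ : E) ⟨αK, hαE⟩
          exact ⟨Subgroup.mem_centralizer_singleton_iff.mpr
            (congrArg (fun t : E => ((t : K) : G)) this), u.2⟩
        have hzwE : αK ∈ E → zK ∈ E ∧ (⟨w, hwK⟩ : K) ∈ E := by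
          intro hαE
          obtain ⟨g, hgK, hg⟩ := hinK z h2
          have h := hEn.conj_mem αK hαE ⟨g, hgK⟩
          rw [show (⟨g, hgK⟩ : K) * αK * (⟨g, hgK⟩ : K)⁻¹ = zK from Subtype.ext hg] at h
          refine ⟨h, ?_⟩
          have h' := E.mul_mem h hαE
          rwa [show zK * αK = ⟨w, hwK⟩ from Subtype.ext hzw] at h'
        refine ⟨fun h2' => ?_, fun h4 => ?_⟩
        · haveI : Nontrivial E := Finite.one_lt_card_iff_nontrivial.mp (by omega)
          obtain ⟨u, hu⟩ := exists_ne (1 : E)
          have hαE := hinvE u u.2 (fun e => hu (Subtype.ext e))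
          have hne : ∀ x y : E, x ≠ 1 → y ≠ 1 → x = y := by
            haveI := Fintype.ofFinite E
            intro x y hx hy
            by_contra hxy
            have := Finset.card_le_univ ({1, x, y} : Finset E)
            rw [← Nat.card_eq_fintype_card, h2'] at this
            simp [Ne.symm hx, Ne.symm hy, hxy] at this
          have := hne ⟨αK, hαE⟩ ⟨zK, (hzwE hαE).1⟩
            (fun e => hD.ne_one (congrArg (fun t : E => ((t : K) : G)) e))
            (fun e => hz1 (congrArg (fun t : E => ((t : K) : G)) e))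
          exact hzα (congrArg (fun t : E => ((t : K) : G)) this).symm
        · haveI : Nontrivial E := Finite.one_lt_card_iff_nontrivial.mp (by omega)
          obtain ⟨u, hu⟩ := exists_ne (1 : E)
          have hαE := hinvE u u.2 (fun e => hu (Subtype.ext e))
          refine hE fun g hg => Subgroup.mem_normalizer_fintype (S := (V : Set G)) fun v hv => ?_
          have hvE : (⟨v, hv.2⟩ : K) ∈ E := by
            rcases hVlist v hv with rfl | rfl | rfl | rfl
            exacts [E.one_mem, hαE, (hzwE hαE).1, (hzwE hαE).2]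
          exact hmemV _ (hEn.conj_mem _ hvE ⟨g, hg⟩) hαE
    obtain ⟨φ⟩ := hKA
    have hK60 : Nat.card K = 60 := by
      rw [Nat.card_congr φ.toEquiv, Nat.card_eq_fintype_card, card_alternatingGroup,
        Fintype.card_fin]
      rfl
    haveI : IsSimpleGroup K := by
      haveI : IsSimpleGroup (alternatingGroup (Fin 5)) := alternatingGroup.isSimpleGroup (by simp)
      haveI : Nontrivial K := φ.toEquiv.nontrivial
      exact IsSimpleGroup.isSimpleGroup_of_surjective φ.symm.toMonoidHom φ.symm.surjective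
    have hG120 : Nat.card G = 120 := by
      have := K.card_mul_index
      rw [hK60, hKi] at this
      omega
    set H := Subgroup.normalizer (V : Set G) with hH
    have hCH : C ≤ H := by
      intro g hg
      refine Subgroup.mem_normalizer_fintype (S := (V : Set G)) fun v hv => ?_
      exact ⟨C.mul_mem (C.mul_mem hg hv.1) (C.inv_mem hg), hconjK g v hv.2⟩
    have h24 : 24 ∣ Nat.card H := by
      refine Nat.Coprime.mul_dvd_of_dvd_of_dvd (show Nat.Coprime 3 8 by decide) ?_
        (hD.card_C ▸ Subgroup.card_dvd_of_le hCH)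
      exact (show 3 ∣ 12 by norm_num).trans (hN12 ▸ Subgroup.card_dvd_of_le (inf_le_right : N ≤ H))
    have hidx5 : H.index ≤ 5 := by
      obtain ⟨m, hm⟩ := h24
      have := H.card_mul_index
      rw [hm, hG120] at this
      have hm0 : 0 < m := Nat.pos_of_ne_zero (by rintro rfl; simp at this)
      nlinarith
    set f := MulAction.toPermHom G (G ⧸ H) with hf
    have hker : f.ker ≤ H := by rw [← Subgroup.normalCore_eq_ker]; exact Subgroup.normalCore_le H
    have hnle : ¬ K ≤ H := hE
    have hbotK : ∀ r ∈ f.ker, r ∈ K → r = 1 := by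
      haveI : (f.ker.subgroupOf K).Normal := Subgroup.normal_subgroupOf
      rcases (inferInstance : (f.ker.subgroupOf K).Normal).eq_bot_or_eq_top with e | e
      · intro r hr hrK
        have : (⟨r, hrK⟩ : K) ∈ f.ker.subgroupOf K := hr
        rw [e, Subgroup.mem_bot] at this
        exact congrArg Subtype.val this
      · rw [Subgroup.subgroupOf_eq_top] at e
        exact absurd (e.trans hker) hnle
    have hinj : Function.Injective f := by
      rw [← MonoidHom.ker_eq_bot_iff, Subgroup.eq_bot_iff_forall]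
      intro r hr
      refine hbotK r hr (hCK r fun v hv => ?_)
      have hcm : r * v * r⁻¹ * v⁻¹ = 1 := hbotK _ (by
        have := f.ker.mul_mem hr (f.normal_ker.conj_mem _ (f.ker.inv_mem hr) v)
        rwa [show r * (v * r⁻¹ * v⁻¹) = r * v * r⁻¹ * v⁻¹ by group] at this)
        (K.mul_mem (hconjK r v hv) (K.inv_mem hv))
      exact mul_inv_eq_iff_eq_mul.mp (mul_inv_eq_one.mp hcm)
    have hidx : H.index = 5 := by
      by_contra hne
      have h := Nat.card_le_card_of_injective f hinj
      rw [hG120, Nat.card_perm] at h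
      have h4 := Nat.factorial_le (show H.index ≤ 4 by omega)
      rw [show Nat.card (G ⧸ H) = H.index from rfl] at h
      rw [show Nat.factorial 4 = 24 by rfl] at h4
      omega
    haveI := Fintype.ofFinite (G ⧸ H)
    have e : G ⧸ H ≃ Fin 5 :=
      Fintype.equivFinOfCardEq (by rw [← Nat.card_eq_fintype_card]; exact hidx)
    exact ⟨MulEquiv.ofBijective (e.permCongrHom.toMonoidHom.comp f)
      (Function.Injective.bijective_of_nat_card_le (e.permCongrHom.injective.comp hinj)
        (by rw [hG120, Nat.card_perm, Nat.card_fin]; rfl))⟩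

end CfsgLib.CentralizerD8
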